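import Groth.Prelude.Def_AlgSpD
import Groth.Agent.AlgSp.K44.LocProj

/-!
# S10255, restated

The row S10255 is false as written: `AlgSp.ModEt` has values in `Type (u + 1)` and its quasi-coherent objects may have
sections which are not `u`-small, while a `ZarCompanion` identifies the sections over opens with `ULift`s of `Type u`
groups.  So the hypothesis `hproj` of the row, which speaks only of the charts on which `q^*G` has a companion, can be
vacuous, and the pullback can nevertheless have small sections which are not projective (see `departures/helper613.md`,
`departures/helper261.md`).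

* `result`: the only change is that local projectivity of `G` is stated with the sections of the Zariski restrictions of
  `G` themselves, instead of those of companions in `Type u`.
* `result_direct`: the same, with the conclusion about the sections of the Zariski restrictions of `f^*G` themselves.
* `result_small`: the other natural repair; all hypotheses of the row are kept as they are, and the only change is one
  additional hypothesis, that the sections of `G` over the affine objects of the small etale site of `Y` are `u`-small.
  (Then all the companions exist.)
-/

set_option autoImplicit false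
universe u
open CategoryTheory CategoryTheory.Limits AlgebraicGeometry Topology TopologicalSpace
open AlgSp

namespace Groth.Agent.Restated.S10255

/-- Local projectivity of inverse images, in the direct form: hypothesis and conclusion are about the sections of the
Zariski restrictions of `G` and of `f^*G` over the affine opens of all schemes etale over `Y` and over `X`. -/
theorem result_direct {S : Scheme.{u}} {X Y : AlgSp.Space S} (f : X ⟶ Y)
    (hrep : AlgSp.Representable f.hom)
    [(SheafOfModules.pushforward.{u + 1} (AlgSp.bcRingHom hrep)).IsRightAdjoint]
    (G : AlgSp.ModEt Y.obj) (hG : G.IsQuasicoherent)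
    (hproj : ∀ {V : Over S} (q : (AlgSp.yon S).obj V ⟶ Y.obj) (hrepq : AlgSp.Representable q)
      [(SheafOfModules.pushforward.{u + 1} (AlgSp.bcRingHom hrepq)).IsRightAdjoint]
      (W : V.left.Opens), AlgSp.RepWith @Etale q → IsAffineOpen W →
        Module.Projective ((AlgSp.OEtSchRing V.left).obj.obj (Opposite.op (AlgSp.etaleOfOpen V.left W)))
          (((AlgSp.resSchModEt V).obj ((AlgSp.pullModEt hrepq).obj G)).val.obj
            (Opposite.op (AlgSp.etaleOfOpen V.left W))))
    {U : Over S} (p : (AlgSp.yon S).obj U ⟶ X.obj) (hrepp : AlgSp.Representable p)
    (hp : AlgSp.RepWith @Etale p)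
    [(SheafOfModules.pushforward.{u + 1} (AlgSp.bcRingHom hrepp)).IsRightAdjoint]
    (W : U.left.Opens) (hW : IsAffineOpen W) :
    Module.Projective ((AlgSp.OEtSchRing U.left).obj.obj (Opposite.op (AlgSp.etaleOfOpen U.left W)))
      (((AlgSp.resSchModEt U).obj
          ((AlgSp.pullModEt hrepp).obj ((AlgSp.pullModEt hrep).obj G))).val.obj
        (Opposite.op (AlgSp.etaleOfOpen U.left W))) := by
  have h1 := K44.ProjPull.locProj_pull hrep (K612.PullQc.hasAtlas_of_isAlgSpace Y.property) G
    (K44.ProjPull.locProj_of_charts G hproj)
  rw [K44.ProjPull.projective_res_iff hrepp (isEtaleMor_of_repWith p hp)]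
  exact h1 _ hW

/-- **Restatement of S10255.**  For a representable morphism: let f : X ⟶ Y be a representable morphism of algebraic
spaces over a scheme S and G a quasi-coherent O_Y-module on the small etale site of Y which is locally projective
(for every scheme V etale over Y the restriction of G to the Zariski site of V has projective
modules of sections over all affine opens). Then the pullback f^*G is locally projective on X: for
every scheme U etale over X the restriction of f^*G to the Zariski site of U has projective modules
of sections over all affine opens. (The published statement is for an arbitrary morphism of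
algebraic spaces; this row takes f representable, where f^* is the left adjoint of the direct image
V ↦ (V ×_Y X) on modules on the small etale sites with scheme objects.)

WHAT WAS CHANGED with respect to the row: the hypothesis `hproj`.  In the row it asks, for every scheme V etale over Y
and every affine open W of V, that H(W) be projective over O_V(W) for every quasi-coherent O_V-module H (with values in
`Type u`) that comes with a `ZarCompanion` to the restriction of q^*G; this says nothing when the sections of q^*G are
not `u`-small.  Here it asks that the module of sections over W of the restriction of q^*G to the site of V (a module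
in `Type (u + 1)` over the lifted ring of functions on W) be projective.  Nothing else was changed; in particular the
conclusion is that of the row, in terms of companions.  (`result_direct` is the same theorem with the conclusion in
the direct form as well.) -/
theorem result {S : Scheme.{u}} {X Y : AlgSp.Space S} (f : X ⟶ Y)
    (hrep : AlgSp.Representable f.hom)
    [(SheafOfModules.pushforward.{u + 1} (AlgSp.bcRingHom hrep)).IsRightAdjoint]
    (G : AlgSp.ModEt Y.obj) (hG : G.IsQuasicoherent)
    (hproj : ∀ {V : Over S} (q : (AlgSp.yon S).obj V ⟶ Y.obj) (hrepq : AlgSp.Representable q)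
      [(SheafOfModules.pushforward.{u + 1} (AlgSp.bcRingHom hrepq)).IsRightAdjoint]
      (W : V.left.Opens), AlgSp.RepWith @Etale q → IsAffineOpen W →
        Module.Projective ((AlgSp.OEtSchRing V.left).obj.obj (Opposite.op (AlgSp.etaleOfOpen V.left W)))
          (((AlgSp.resSchModEt V).obj ((AlgSp.pullModEt hrepq).obj G)).val.obj
            (Opposite.op (AlgSp.etaleOfOpen V.left W))))
    {U : Over S} (p : (AlgSp.yon S).obj U ⟶ X.obj) (hrepp : AlgSp.Representable p)
    (hp : AlgSp.RepWith @Etale p)
    [(SheafOfModules.pushforward.{u + 1} (AlgSp.bcRingHom hrepp)).IsRightAdjoint]
    (H' : U.left.Modules) [Coh.IsQCoh H']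
    (c' : AlgSp.ZarCompanion U.left H'
      ((AlgSp.resSchModEt U).obj ((AlgSp.pullModEt hrepp).obj ((AlgSp.pullModEt hrep).obj G))))
    (W : U.left.Opens) (hW : IsAffineOpen W) :
    Module.Projective (U.left.ringCatSheaf.obj.obj (Opposite.op W)) (H'.val.obj (Opposite.op W)) :=
  (K44.Companion.projective_iff c' W).1 (result_direct f hrep G hG hproj p hrepp hp W hW)

/-- **Restatement of S10255, second form.**  The statement of the row, with ONE additional hypothesis `hsmall`: the
sections of G over the affine objects of the small etale site of Y are `u`-small.  Everything else, in particular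
`hproj` and the conclusion in terms of companions, is as in the row. -/
theorem result_small {S : Scheme.{u}} {X Y : AlgSp.Space S} (f : X ⟶ Y)
    (hrep : AlgSp.Representable f.hom)
    [(SheafOfModules.pushforward.{u + 1} (AlgSp.bcRingHom hrep)).IsRightAdjoint]
    (G : AlgSp.ModEt Y.obj) (hG : G.IsQuasicoherent)
    (hsmall : ∀ E : AlgSp.EtOver Y.obj, IsAffine E.obj.left.left → Small.{u} (AlgSp.sectModEt G E))
    (hproj : ∀ {V : Over S} (q : (AlgSp.yon S).obj V ⟶ Y.obj) (hrepq : AlgSp.Representable q)
      [(SheafOfModules.pushforward.{u + 1} (AlgSp.bcRingHom hrepq)).IsRightAdjoint]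
      (H : V.left.Modules) [Coh.IsQCoh H]
      (c : AlgSp.ZarCompanion V.left H ((AlgSp.resSchModEt V).obj ((AlgSp.pullModEt hrepq).obj G)))
      (W : V.left.Opens), AlgSp.RepWith @Etale q → IsAffineOpen W →
        Module.Projective (V.left.ringCatSheaf.obj.obj (Opposite.op W)) (H.val.obj (Opposite.op W)))
    {U : Over S} (p : (AlgSp.yon S).obj U ⟶ X.obj) (hrepp : AlgSp.Representable p)
    (hp : AlgSp.RepWith @Etale p)
    [(SheafOfModules.pushforward.{u + 1} (AlgSp.bcRingHom hrepp)).IsRightAdjoint]
    (H' : U.left.Modules) [Coh.IsQCoh H']
    (c' : AlgSp.ZarCompanion U.left H'
      ((AlgSp.resSchModEt U).obj ((AlgSp.pullModEt hrepp).obj ((AlgSp.pullModEt hrep).obj G))))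
    (W : U.left.Opens) (hW : IsAffineOpen W) :
    Module.Projective (U.left.ringCatSheaf.obj.obj (Opposite.op W)) (H'.val.obj (Opposite.op W)) := by
  have hY := K612.PullQc.hasAtlas_of_isAlgSpace Y.property
  have h1 := K44.ProjPull.locProj_pull hrep hY G
    (K44.Companion.locProj_of_companions hY G hsmall hproj)
  rw [← K44.Companion.projective_iff c' W,
    K44.ProjPull.projective_res_iff hrepp (isEtaleMor_of_repWith p hp)]
  exact h1 _ hW

end Groth.Agent.Restated.S10255
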