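import Groth.Prelude.Def_Red2
import Groth.Prelude.Def_Par
import Groth.Agent.Par.K461.LeviRad
import Groth.Agent.Par.K461.LeviRadCT

/-!
# Row S12115 (`Par.levi_containing_torus_eq_centralizer_of_pinning_adapted`) restated and proved

The frozen row S12115 has no hypothesis on the base and computes the type `Δ(P)` of the parabolic subgroup over the
whole base. It is false as written (helper546; `Groth.Agent.Refuted.S12115`): `S = S₁ ⊔ S₂`, `G = SL₂` with its
pinning, `P` the Borel subgroup over `S₁` and `P = G` over `S₂`, `L = T` over `S₁` and `L = G` over `S₂`; then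
`U_{-a}` is not contained in `P` over `S`, `Δ(P) = ∅`, `T_{Δ(P)} = T`, but `L ≠ T = Centr_G(T)` over `S₂`.

The text works with the type of `P`, a locally constant function on the base; its root-theoretic description needs
the type to be constant. Two versions are proved here:

* `result`: the base `S` is connected (one binder added, as in the rows S8504, S5574 of the same chapters);
* `result_of_constantType`: `S` is arbitrary and for every simple root `a` the root group `U_{-a}` is contained in
  `P` as soon as it is contained in `P` on one geometric fibre.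
-/

set_option autoImplicit false
open CategoryTheory MonoidalCategory CartesianMonoidalCategory MonObj GrpObj AlgebraicGeometry
universe u
open Par

namespace Groth.Agent.Restated.S12115

/-- Let S be a connected scheme, G a reductive S-group with a pinning D (maximal torus i : T ⟶ G split by T ≅ D_S(M),
root datum D.P with root homomorphisms D.u a, base D.base), and p : P ⟶ G a parabolic subgroup to which
the pinning is adapted: T ⊆ P and U_a ⊆ P for every root a that is a non-negative combination of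
simple roots. Let Δ(P) be the set of simple roots a with U_{-a} ⊆ P, N ⊆ M the saturation of the
subgroup generated by the roots in Δ(P), and j : D_S(M/N) ⟶ G the subtorus T_{Δ(P)} of T it defines
(the maximal torus of the intersection of the kernels of the a ∈ Δ(P)). Then for every Levi subgroup
l : L ⟶ P containing T: (a) L is the centralizer of T_{Δ(P)} in G; (b) T_{Δ(P)} is the radical of L:
it factors through L and, for any centre ZL ⟶ L of L, through ZL as a maximal torus of ZL.

WHAT WAS CHANGED with respect to the frozen row S12115: the one binder `[ConnectedSpace S]` is added. Nothing else is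
different. Without it the statement is false (P may have different types over different components). -/
theorem result {S : Scheme.{u}} [ConnectedSpace S] {G P L : Over S}
    [GrpObj G] [GrpObj P] [GrpObj L] (D : Red.Pinning G) (p : P ⟶ G) (hP : Red.IsParabolic p)
    (hT : ∃ t : D.T ⟶ P, t ≫ p = D.i)
    (hpos : ∀ a : D.idx, D.P.root a ∈ AddSubmonoid.closure (D.P.root '' (D.base.support : Set D.idx)) →
      ∃ v : Red.Ga S ⟶ P, v ≫ p = D.u a)
    (ΔP : Set D.idx)
    (hΔP : ∀ a : D.idx, a ∈ ΔP ↔ (a ∈ D.base.support ∧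
      ∃ b : D.idx, D.P.root b = - D.P.root a ∧ ∃ v : Red.Ga S ⟶ P, v ≫ p = D.u b))
    (N : Submodule ℤ D.M)
    (hN : ∀ m : D.M, m ∈ N ↔ ∃ k : ℤ, k ≠ 0 ∧ k • m ∈ Submodule.span ℤ (D.P.root '' ΔP))
    (l : L ⟶ P) (hl : Par.IsLevi l) (hTL : ∃ t' : D.T ⟶ L, t' ≫ l ≫ p = D.i) :
    Red.IsCentralizerOf (Red.DSmap S N.mkQ.toAddMonoidHom ≫ D.split.inv.hom.hom ≫ D.i) (l ≫ p) ∧
    (∃ r₀ : Red.DS S (D.M ⧸ N) ⟶ L, r₀ ≫ l ≫ p = Red.DSmap S N.mkQ.toAddMonoidHom ≫ D.split.inv.hom.hom ≫ D.i) ∧
    ∀ (ZL : Over S) [GrpObj ZL] (jz : ZL ⟶ L), Red.IsCentre jz →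
      ∃ r : Red.DS S (D.M ⧸ N) ⟶ ZL, r ≫ jz ≫ l ≫ p = Red.DSmap S N.mkQ.toAddMonoidHom ≫ D.split.inv.hom.hom ≫ D.i ∧
        Red.IsMaximalTorus r := by
  obtain ⟨t, ht⟩ := hTL
  obtain ⟨h1, h2⟩ := K461.LeviRad.main D p hP hpos ΔP hΔP N hN l hl t ht
  exact ⟨h1, ⟨Red.DSmap S N.mkQ.toAddMonoidHom ≫ D.split.inv.hom.hom ≫ t, by simp only [Category.assoc, ht]⟩, h2⟩

/-- Let S be a scheme, G a reductive S-group with a pinning D (maximal torus i : T ⟶ G split by T ≅ D_S(M),
root datum D.P with root homomorphisms D.u a, base D.base), and p : P ⟶ G a parabolic subgroup to which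
the pinning is adapted: T ⊆ P and U_a ⊆ P for every root a that is a non-negative combination of
simple roots. Suppose that P is of constant type: for every simple root a, if U_{-a} ⊆ P on some geometric fibre, then
U_{-a} ⊆ P. Let Δ(P) be the set of simple roots a with U_{-a} ⊆ P, N ⊆ M the saturation of the
subgroup generated by the roots in Δ(P), and j : D_S(M/N) ⟶ G the subtorus T_{Δ(P)} of T it defines
(the maximal torus of the intersection of the kernels of the a ∈ Δ(P)). Then for every Levi subgroup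
l : L ⟶ P containing T: (a) L is the centralizer of T_{Δ(P)} in G; (b) T_{Δ(P)} is the radical of L:
it factors through L and, for any centre ZL ⟶ L of L, through ZL as a maximal torus of ZL.

WHAT WAS CHANGED with respect to the frozen row S12115: the one hypothesis `hconst` (P is of constant type) is added.
Nothing else is different. -/
theorem result_of_constantType {S : Scheme.{u}} {G P L : Over S}
    [GrpObj G] [GrpObj P] [GrpObj L] (D : Red.Pinning G) (p : P ⟶ G) (hP : Red.IsParabolic p)
    (hT : ∃ t : D.T ⟶ P, t ≫ p = D.i)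
    (hpos : ∀ a : D.idx, D.P.root a ∈ AddSubmonoid.closure (D.P.root '' (D.base.support : Set D.idx)) →
      ∃ v : Red.Ga S ⟶ P, v ≫ p = D.u a)
    (hconst : ∀ a ∈ D.base.support, ∀ b : D.idx, D.P.root b = - D.P.root a → ∀ s : S,
      (∃ v : Red.geomFibre s (Red.Ga S) ⟶ Red.geomFibre s P,
        v ≫ (Over.pullback (Red.geomPt s)).map p = (Over.pullback (Red.geomPt s)).map (D.u b)) →
      ∃ v : Red.Ga S ⟶ P, v ≫ p = D.u b)
    (ΔP : Set D.idx)
    (hΔP : ∀ a : D.idx, a ∈ ΔP ↔ (a ∈ D.base.support ∧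
      ∃ b : D.idx, D.P.root b = - D.P.root a ∧ ∃ v : Red.Ga S ⟶ P, v ≫ p = D.u b))
    (N : Submodule ℤ D.M)
    (hN : ∀ m : D.M, m ∈ N ↔ ∃ k : ℤ, k ≠ 0 ∧ k • m ∈ Submodule.span ℤ (D.P.root '' ΔP))
    (l : L ⟶ P) (hl : Par.IsLevi l) (hTL : ∃ t' : D.T ⟶ L, t' ≫ l ≫ p = D.i) :
    Red.IsCentralizerOf (Red.DSmap S N.mkQ.toAddMonoidHom ≫ D.split.inv.hom.hom ≫ D.i) (l ≫ p) ∧
    (∃ r₀ : Red.DS S (D.M ⧸ N) ⟶ L, r₀ ≫ l ≫ p = Red.DSmap S N.mkQ.toAddMonoidHom ≫ D.split.inv.hom.hom ≫ D.i) ∧
    ∀ (ZL : Over S) [GrpObj ZL] (jz : ZL ⟶ L), Red.IsCentre jz →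
      ∃ r : Red.DS S (D.M ⧸ N) ⟶ ZL, r ≫ jz ≫ l ≫ p = Red.DSmap S N.mkQ.toAddMonoidHom ≫ D.split.inv.hom.hom ≫ D.i ∧
        Red.IsMaximalTorus r := by
  obtain ⟨t, ht⟩ := hTL
  obtain ⟨h1, h2⟩ := K461.LeviRad.main_ct D p hP hpos hconst ΔP hΔP N hN l hl t ht
  exact ⟨h1, ⟨Red.DSmap S N.mkQ.toAddMonoidHom ≫ D.split.inv.hom.hom ≫ t, by simp only [Category.assoc, ht]⟩, h2⟩

end Groth.Agent.Restated.S12115
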