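import Groth.Prelude.Def_Models
import Groth.Prelude.Def_ModelsSS
import Groth.Prelude.Def_ModelsG
import Groth.Prelude.Def_SGA7IX
import Groth.Prelude.Def_AbDual
import Groth.Agent.Models.K485.BackMain
import Groth.Agent.Models.K485.Forward
import Groth.Agent.Models.K485.PL
import Groth.Agent.Models.K511.InertHyp
import Groth.Agent.Models.K746.Count

/-!
# Row S15113 (`Models.hasSemistableReduction_iff_jacobian_hasSemistableReduction`) restated and proved

The frozen row does not say that `C` has dimension one and is false as written (`Groth/Agent/Refuted/S15113.lean`: a constant
abelian surface).  The text is about smooth proper CURVES.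

Proof.  (⇒) Over the strict henselization the Picard-Lefschetz theorem in odd dimension (S3999) and the Kummer sequence give
`(σ - 1)(τ - 1) = 0` on the `l`-power torsion of `J`; then the Galois criterion S4048.  (⇐) Over the completion, S4048 shows that the
`l`-torsion of `J` is rational over `K(ϖ^(1/l))`, hence (no rational point is needed for `l > 2g - 2`) that `Pic(C)` has full
`l`-torsion there; for `l > 768 g` the numerical theory of minimal models (S2185, S3323, S3324) shows that `C` has semistable
reduction over `R[ϖ^(1/l)]`; for two different primes `l` the Galois group of `K(ϖ^(1/(l₁ l₂)))` then acts trivially on the closed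
fibre of the stable model, which descends to `R`.

Contributors: helper326 (two primes, count), helper381 (core without a rational point, nodes), helper485 (assembly, completion,
Kummer), helper487 (the Picard-Lefschetz route), helper511 (inertia, injectivity), helper567 (dictionary between points and classes,
refutation), helper746 (descent by norms, count), helper954 (tame descent).
-/

set_option autoImplicit false
universe u
open CategoryTheory CategoryTheory.Limits MonoidalCategory CartesianMonoidalCategory MonObj GrpObj AlgebraicGeometry
open Models

namespace Groth.Agent.Restated.S15113

/-- Let R be a discrete valuation ring with algebraically closed residue field and fraction field K, C a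
smooth proper curve over K with H⁰(C, O_C) = K and dim_K H¹(C, O_C) ≥ 2, and J the Jacobian of C: a
commutative K-group scheme, proper and smooth over K, which through φ represents the fppf
sheafification of T ↦ Pic⁰(C ×_K T) (classes algebraically equivalent to zero on geometric fibres),
φ turning tensor products of such classes into products of points. Then C has semi-stable reduction
over R — it has a proper model over R which is an at-worst-nodal family — if and only if J has
semi-stable reduction over R — it is the generic fibre, as a K-group scheme, of a smooth separated
group scheme of finite type over R all of whose geometric fibres have unipotent rank zero.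

WHAT WAS CHANGED with respect to the frozen row S15113: the one hypothesis `(hC1 : topologicalKrullDim C = 1)` is added
(C is a curve; the same form as in the row S15407). Nothing else is different. Without it the statement is false. -/
theorem result
    (R : Type u) [CommRing R] [IsDomain R] [IsDiscreteValuationRing R]
    (hk : IsAlgClosed (IsLocalRing.ResidueField R))
    (C : Scheme.{u}) (fC : C ⟶ (Spec (CommRingCat.of (FractionRing R)))) [IsProper fC] [Smooth fC]
    (hC0 : Models.hRank (FractionRing R) C fC (Coh.structureModule C) 0 = 1)
    (hC1 : topologicalKrullDim C = 1)
    (hg : 2 ≤ Models.curveGenus (FractionRing R) C fC)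
    (J : Over (Spec (CommRingCat.of (FractionRing R)))) [GrpObj J] [IsCommMonObj J] [IsProper J.hom] [Smooth J.hom]
    (φ : ∀ T : Over (Spec (CommRingCat.of (FractionRing R))), PicF.Cl (PicF.XT fC T) → (T ⟶ J))
    (hJ : AbDual.IsRelPicZeroK Scheme.fppfPrecoverage fC J φ)
    (hmul : ∀ (T : Over (Spec (CommRingCat.of (FractionRing R)))) (L M : (PicF.XT fC T).Modules), AbDual.IsPicZeroCl fC T (PicF.cl L) →
      AbDual.IsPicZeroCl fC T (PicF.cl M) → φ T (PicF.cl (CohB1.tensorMod L M)) = φ T (PicF.cl L) * φ T (PicF.cl M)) :
    Models.HasSemistableReduction R C fC ↔ SGA7.HasSemistableReduction R (FractionRing R) J := by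
  refine ⟨fun h => ?_, fun h => ?_⟩
  · exact Groth.Agent.Models.K485.Forward.main Groth.Agent.Models.K485.PL.plHyp R C fC hC0 hC1 J φ hJ hmul h
  · exact Groth.Agent.Models.K485.BackMain.main Groth.Agent.Models.K511.InertHyp.main K746.Count.countHyp R hk C fC hC0 hC1 hg J φ hJ hmul h

end Groth.Agent.Restated.S15113
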