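import Groth.Prelude.Def_DualSch
import Groth.Prelude.Def_DDual2
import Groth.Prelude.Def_DCoh2
import Groth.Prelude.Def_Coh
import Groth.Prelude.Def_ClSub2
import Groth.Prelude.Def_EGA4b
import Groth.Prelude.Def_CAlg
import Groth.Prelude.Def_CohB1
import Groth.Prelude.Def_RelProj
import Mathlib.AlgebraicGeometry.Morphisms.Proper
import Mathlib.AlgebraicGeometry.Noetherian
import Mathlib.Topology.KrullDimension
import Mathlib.RingTheory.KrullDimension.Basic
import Groth.Agent.RatSing.K289.GRConcl

/-!
# Row S15710 restated: Kempf's criterion with Grauert–Riemenschneider vanishing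

The frozen row S15710 asserts that a pseudo-rational modification f : X → Y of Cohen–Macaulay schemes is a
cohomological equivalence.  This is false: see departures/helper870.md for a non-normal surface X over the affine
plane.  Adding normality of X does not help in dimension ≥ 3: there is a normal Cohen–Macaulay X, projective and
birational over A^3 in characteristic 0 and an isomorphism off the origin, with a curve P^1 of simple elliptic
singularities over the origin, for which R^2 f_* O_X = k (departures/helper6.md, departures/helper289.md).  What is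
missing is the Grauert–Riemenschneider vanishing R^p f_* ω_X = 0 for p > 0; with it as a hypothesis the statement is
Kempf's criterion and is proved here.
-/

set_option autoImplicit false
universe u
open CategoryTheory CategoryTheory.Limits AlgebraicGeometry TopologicalSpace
attribute [local instance] HasDerivedCategory.standard

namespace Groth.Agent.Restated.S15710

/-- Let X and Y be excellent schemes, Cohen–Macaulay and equidimensional of dimension d, with a
dualizing complex on Y, and f : X → Y a locally projective birational morphism which is a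
pseudo-rational modification: f is an isomorphism over an open V of Y whose complement has
codimension at least 2 and whose preimage is dense in X, and the natural map f_* ω_X → ω_Y is
surjective; ASSUME MOREOVER Grauert–Riemenschneider vanishing R^p f_* ω_X = 0 for p > 0. Then f is a cohomological equivalence: O_Y → f_* O_X is an isomorphism, R^p f_* O_X = 0
for p > 0, and the trace Rf_* ω_X^• → ω_Y^• is an isomorphism; in particular f_* ω_X ≅ ω_Y and R^p
f_* ω_X = 0 for p > 0. This row takes Y Noetherian (the assertion is local on Y), fixes the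
dualizing complex K = ω_Y^• on Y with quasi-coherent cohomology concentrated in degree -d (so ω_Y =
h^{-d} K), uses ω_X^• = f^! K with f^! the right adjoint of Rf_* on D_QCoh and ω_X = h^{-d}(f^! K),
expresses the codimension condition as dim O_{Y,y} ≥ 2 off V, and expresses surjectivity of f_* ω_X
→ ω_Y as: h^{-d} of the trace Rf_* f^! K → K is an epimorphism; locally projective is taken as:
locally on Y, f factors through a closed immersion into a projective space over the base. Existence
of Rf_* and f^!, preservation of D_QCoh, exactness of restriction to opens and of M ↦ M~, and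
injective resolutions are carried as hypotheses.

WHAT WAS CHANGED with respect to the frozen row S15710: the hypothesis `hGR` (Grauert–Riemenschneider
vanishing, R^p f_* ω_X = 0 for p > 0) is added; in the frozen row it occurs only in the conclusion, where it
is kept.  This is Kempf's criterion in its classical form. -/
theorem result (X Y : Scheme.{u}) (d : ℕ)
    [IsLocallyNoetherian X] [IsNoetherian Y]
    (hexcX : ∀ V : X.affineOpens, EGA4.IsExcellent Γ(X, V.1)) (hexcY : ∀ V : Y.affineOpens, EGA4.IsExcellent Γ(Y, V.1))
    (hcmX : ∀ x : X, LocCoh.IsCohenMacaulayLocalRing (X.presheaf.stalk x))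
    (hcmY : ∀ y : Y, LocCoh.IsCohenMacaulayLocalRing (Y.presheaf.stalk y))
    (hpdX : ∀ Z ∈ irreducibleComponents (X : Type u), topologicalKrullDim Z = d)
    (hpdY : ∀ Z ∈ irreducibleComponents (Y : Type u), topologicalKrullDim Z = d)
    [∀ (U : Scheme.{u}) (j : U ⟶ Y) [IsOpenImmersion j], PreservesFiniteLimits (Scheme.Modules.restrictFunctor j)]
    [∀ (R : CommRingCat.{u}), PreservesFiniteLimits (tilde.functor R)]
    (f : X ⟶ Y) (hproj : ∀ y : Y, ∃ U : Y.Opens, y ∈ U ∧ RelProj.IsHProjective (f ∣_ U))
    (V : Y.Opens) (hV : ∀ y : Y, y ∉ V → (2 : WithBot ℕ∞) ≤ ringKrullDim (Y.presheaf.stalk y))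
    (hVX : Dense ((f ⁻¹ᵁ V : X.Opens) : Set X)) [IsIso (f ∣_ V)]
    [DCoh.HasRpush f] (h : DCoh.RpushPreservesQCoh f) [DCoh.HasShriek f h]
    (K : DCoh.DQCoh Y) (hK : Dual2.IsDualizingSch Y K.obj)
    (hKd : ∀ i : ℤ, i ≠ -(d : ℤ) → IsZero (DCoh.HD K.obj i))
    (hsurj : Epi ((DerivedCategory.homologyFunctor Y.Modules (-(d : ℤ))).map
      ((ObjectProperty.ι DCoh.IsQCohD).map ((DCoh.trace f h).app K))))
    (hGR : ∀ p : ℕ, 0 < p →
      IsZero ((Coh.Rpush f p).obj (DCoh.HD ((DCoh.shriek f h).obj K).obj (-(d : ℤ)))))
    [HasInjectiveResolutions X.Modules] :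
    IsIso ((ObjectProperty.ι DCoh.IsQCohD).map ((DCoh.trace f h).app K)) ∧
      IsIso (ClSub.unitToPush f) ∧
      (∀ p : ℕ, 0 < p → IsZero ((Coh.Rpush f p).obj (Coh.structureModule X))) ∧
      (∀ p : ℕ, 0 < p → IsZero ((Coh.Rpush f p).obj (DCoh.HD ((DCoh.shriek f h).obj K).obj (-(d : ℤ))))) := by
  have : IsProper f := K289.GRConcl.isProper_of_locally f hproj
  have hτ : IsIso ((ObjectProperty.ι DCoh.IsQCohD).map ((DCoh.trace f h).app K)) :=
    K289.GRCore.isIso_trace f h (DCoh.shriekAdj f h) hcmX V hVX K hK (-(d : ℤ)) hKd hGR hsurj
  obtain ⟨h1, h2⟩ := K289.GRConcl.concl f h K hK hτ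
  exact ⟨hτ, h1, h2, hGR⟩

end Groth.Agent.Restated.S15710
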