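-- Restated version of statement S15711: the frozen statement is false (departures/helper870.md,
-- departures/helper289.md).  This file carries no weight; it proves the corrected statement.
import Groth.Prelude.Def_DualSch
import Groth.Prelude.Def_DDual2
import Groth.Prelude.Def_DCoh2
import Groth.Prelude.Def_Coh
import Groth.Prelude.Def_ClSub2
import Groth.Prelude.Def_EGA4b
import Groth.Prelude.Def_CAlg
import Groth.Prelude.Def_CohB1
import Groth.Prelude.Def_RelProj
import Mathlib.AlgebraicGeometry.Morphisms.Proper
import Mathlib.AlgebraicGeometry.Noetherian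
import Mathlib.Topology.KrullDimension
import Mathlib.RingTheory.KrullDimension.Basic
import Groth.Prelude.Def_Dual3
import Groth.Agent.RatSing.K289.GRConcl
import Groth.Agent.RatSing.K289.GRLocal

set_option autoImplicit false
universe u
open CategoryTheory CategoryTheory.Limits AlgebraicGeometry TopologicalSpace
attribute [local instance] HasDerivedCategory.standard

namespace Groth.Agent.Restated.S15711

/-- Suppose X and Y are excellent and Cohen–Macaulay, Y has a dualizing complex, f : X → Y is
birational and locally projective, and Grauert–Riemenschneider vanishing holds for f: R^p f_* ω_X =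
0 for p > 0. If the natural map η : O_Y → Rf_* O_X has a left inverse up to automorphism, i.e. there
is η' : Rf_* O_X → O_Y with η' ∘ η an isomorphism, then f is a cohomological equivalence: O_Y → f_*
O_X is an isomorphism and R^p f_* O_X = 0 for p > 0. This row takes Y Noetherian (the assertion is
local on Y); η is written in D_QCoh(O_Y) as the unit of the adjunction Lf^* ⊣ Rf_* at O_Y followed
by Rf_* of an identification Lf^* O_Y ≅ O_X (the existence of a left inverse does not depend on that
identification); locally projective is taken as: locally on Y, f factors through a closed immersion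
into a projective space over the base; birational means f restricts to an isomorphism between dense
open subsets; K is a dualizing complex on Y with quasi-coherent cohomology sheaves and f^! is the
right adjoint of Rf_* on D_QCoh; the vanishing is required of R^p f_* of every cohomology sheaf of
f^! K (X being Cohen–Macaulay, f^! K is on every connected component of X a shift of one sheaf, so
this is the vanishing of R^p f_* ω_X; it does not depend on the choice of K). Existence of Lf^*,
Rf_*, f^!, their adjunctions on D_QCoh, preservation of D_QCoh, exactness of restriction to opens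
and of M ↦ M~, and injective resolutions are carried as hypotheses.

WHAT WAS CHANGED against the frozen S15711: (1) the hypothesis `hGR` was added; (2) to state it, the
dualizing complex `K` on Y is given (as in S15709), instead of `∃ K`, and `[DCoh.HasShriek f h]` is
carried as hypothesis. Everything else is unchanged. The frozen statement is false: for surfaces
with X not normal (departures/helper870.md), and for threefolds even with X normal, Gorenstein and a
local complete intersection (departures/helper289.md), so adding "X normal" would not repair it; in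
these examples R^p f_* ω_X ≠ 0 for some p > 0. The added hypothesis is also necessary: if f is a
cohomological equivalence, then Rf_* f^! K ≅ K by duality (S15709), whence R^p f_* ω_X = 0 for p >
0; it holds for X regular of characteristic zero (Grauert–Riemenschneider). -/
theorem result (X Y : Scheme.{u})
    [IsLocallyNoetherian X] [IsNoetherian Y]
    (hexcX : ∀ V : X.affineOpens, EGA4.IsExcellent Γ(X, V.1)) (hexcY : ∀ V : Y.affineOpens, EGA4.IsExcellent Γ(Y, V.1))
    (hcmX : ∀ x : X, LocCoh.IsCohenMacaulayLocalRing (X.presheaf.stalk x))
    (hcmY : ∀ y : Y, LocCoh.IsCohenMacaulayLocalRing (Y.presheaf.stalk y))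
    [∀ (U : Scheme.{u}) (j : U ⟶ Y) [IsOpenImmersion j], PreservesFiniteLimits (Scheme.Modules.restrictFunctor j)]
    [∀ (R : CommRingCat.{u}), PreservesFiniteLimits (tilde.functor R)]
    (f : X ⟶ Y) (hproj : ∀ y : Y, ∃ U : Y.Opens, y ∈ U ∧ RelProj.IsHProjective (f ∣_ U))
    (hbir : ∃ V : Y.Opens, Dense (V : Set Y) ∧ Dense ((f ⁻¹ᵁ V : X.Opens) : Set X) ∧ IsIso (f ∣_ V))
    [DCoh.HasRpush f] (h : DCoh.RpushPreservesQCoh f) [DCoh.HasShriek f h]
    (K : DCoh.DQCoh Y) (hK : Dual2.IsDualizingSch Y K.obj) [HasInjectiveResolutions X.Modules]
    (hGR : ∀ (i : ℤ) (p : ℕ), 0 < p →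
      IsZero ((Coh.Rpush f p).obj (DCoh.HD ((DCoh.shriek f h).obj K).obj i)))
    [DCoh.HasLpull f] (hL : Dual3.LpullPreservesQCoh f)
    (adjL : Dual3.LpullQ f hL ⊣ DCoh.RpushQ f h)
    (OY : DCoh.DQCoh Y) (eY : OY.obj ≅ DCoh.inD Y (Coh.structureModule Y))
    (OX : DCoh.DQCoh X) (eX : OX.obj ≅ DCoh.inD X (Coh.structureModule X))
    (e : (Dual3.LpullQ f hL).obj OY ≅ OX)
    (hsplit : ∃ η' : (DCoh.RpushQ f h).obj OX ⟶ OY, IsIso (adjL.unit.app OY ≫ (DCoh.RpushQ f h).map e.hom ≫ η')) :
    IsIso (ClSub.unitToPush f) ∧ ∀ p : ℕ, 0 < p → IsZero ((Coh.Rpush f p).obj (Coh.structureModule X)) := by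
  have : IsProper f := K289.GRConcl.isProper_of_locally f hproj
  obtain ⟨s, hs⟩ := K289.GRConcl.exists_section_trace f h hL adjL K OY eY OX eX e hsplit
  obtain ⟨V, -, hV, hVi⟩ := hbir
  refine K289.GRConcl.concl f h K hK ?_
  have hsurj : ∀ i : ℤ, Epi ((DerivedCategory.homologyFunctor Y.Modules i).map
      ((DCoh.shriekAdj f h).counit.app K).hom) := by
    intro i
    have h2 : IsSplitEpi ((DerivedCategory.homologyFunctor Y.Modules i).map
        ((DCoh.shriekAdj f h).counit.app K).hom) :=
      ⟨⟨⟨(DerivedCategory.homologyFunctor Y.Modules i).map s, by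
        rw [← Functor.map_comp]
        refine Eq.trans (congrArg _ hs) (CategoryTheory.Functor.map_id _ _)⟩⟩⟩
    infer_instance
  exact K289.GRLocal.isIso_trace f h (DCoh.shriekAdj f h) hcmX hcmY V hV K hK hGR hsurj

end Groth.Agent.Restated.S15711
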