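import Groth.Prelude.Def_DualSch
import Groth.Prelude.Def_DDual2
import Groth.Prelude.Def_DCoh2
import Groth.Prelude.Def_Coh
import Groth.Prelude.Def_ClSub2
import Groth.Prelude.Def_EGA4b
import Groth.Prelude.Def_CAlg
import Groth.Prelude.Def_CohB1
import Groth.Prelude.Def_RelProj
import Mathlib.AlgebraicGeometry.Morphisms.Proper
import Mathlib.AlgebraicGeometry.Noetherian
import Mathlib.Topology.KrullDimension
import Mathlib.RingTheory.KrullDimension.Basic
import Groth.Agent.RatSing.K289.GRConcl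

/-!
# Row S15718 restated: properly birational Cohen–Macaulay schemes, with Grauert–Riemenschneider vanishing

The frozen row S15718 is false (departures/helper870.md, departures/helper836.md: the refutation in Lean is
Groth/Agent/Refuted/S15718.lean); normality of Z would not repair it in dimension ≥ 3 (departures/helper289.md).
With the vanishing R^p χ_* ω_Z = 0 = R^p ζ_* ω_Z for p > 0 as hypotheses it is proved here.
-/

set_option autoImplicit false
universe u
open CategoryTheory CategoryTheory.Limits AlgebraicGeometry TopologicalSpace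
attribute [local instance] HasDerivedCategory.standard

namespace Groth.Agent.Restated.S15718

/-- `RF_*` does not depend on the name of the morphism. -/
theorem nonempty_rpush_iso_of_eq {Z S : Scheme.{u}} {f g : Z ⟶ S} (h : f = g) [hf : DCoh.HasRpush f]
    [hg : DCoh.HasRpush g] : Nonempty (DCoh.Rpush f ≅ DCoh.Rpush g) := by
  subst h
  exact ⟨Iso.refl _⟩

/-- A pseudo-rational modification with Grauert–Riemenschneider vanishing is a cohomological equivalence:
`O_X ≅ Rχ_* O_Z`. -/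
theorem nonempty_iso {X Z : Scheme.{u}} (d : ℕ) [IsNoetherian X] [IsLocallyNoetherian Z]
    (hcmZ : ∀ z : Z, LocCoh.IsCohenMacaulayLocalRing (Z.presheaf.stalk z))
    [∀ (U : Scheme.{u}) (j : U ⟶ X) [IsOpenImmersion j], PreservesFiniteLimits (Scheme.Modules.restrictFunctor j)]
    [∀ (R : CommRingCat.{u}), PreservesFiniteLimits (tilde.functor R)]
    (χ : Z ⟶ X) [IsProper χ] (V : X.Opens)
    (hVZ : Dense ((χ ⁻¹ᵁ V : Z.Opens) : Set Z)) [IsIso (χ ∣_ V)]
    [DCoh.HasRpush χ] (hχ : DCoh.RpushPreservesQCoh χ) [DCoh.HasShriek χ hχ]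
    (K : DCoh.DQCoh X) (hK : Dual2.IsDualizingSch X K.obj) (hKd : ∀ i : ℤ, i ≠ -(d : ℤ) → IsZero (DCoh.HD K.obj i))
    (hsurjχ : Epi ((DerivedCategory.homologyFunctor X.Modules (-(d : ℤ))).map
      ((ObjectProperty.ι DCoh.IsQCohD).map ((DCoh.trace χ hχ).app K))))
    [HasInjectiveResolutions Z.Modules]
    (hGRχ : ∀ p : ℕ, 0 < p →
      IsZero ((Coh.Rpush χ p).obj (DCoh.HD ((DCoh.shriek χ hχ).obj K).obj (-(d : ℤ))))) :
    Nonempty (DCoh.inD X (Coh.structureModule X) ≅
      (DCoh.Rpush χ).obj (DCoh.inD Z (Coh.structureModule Z))) := by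
  have h1 := K289.GRCore.isIso_trace χ hχ (DCoh.shriekAdj χ hχ) hcmZ V hVZ K hK (-(d : ℤ)) hKd hGRχ hsurjχ
  have h2 := K289.GRConcl.concl χ hχ K hK h1
  have hL : DCoh.HasLpull χ := Groth.Agent.Dcoh.DerPull.hasLpull χ
  have : IsIso (K870.EtaIff.eta χ) := (K870.EtaIff.isIso_eta_iff χ).2 h2
  exact ⟨asIso (K870.EtaIff.eta χ)⟩

/-- Let S be a scheme and φ : X → S, ψ : Y → S two S-schemes which are properly birational over S
through χ : Z → X and ζ : Z → Y (proper birational, with χ followed by φ equal to ζ followed by ψ).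
Assume X, Y and Z are Cohen–Macaulay, X and Y carry dualizing complexes, χ and ζ are both
pseudo-rational modifications that are locally projective, and Grauert–Riemenschneider vanishing
R^p χ_* ω_Z = 0 and R^p ζ_* ω_Z = 0 holds for p > 0. Then Rφ_* O_X and Rψ_* O_Y are isomorphic
(existence of an isomorphism in D(O_S); the companion assertion Rφ_* ω_X ≅ Rψ_* ω_Y is not restated
here). This row takes X and Y Noetherian and X, Y, Z of pure dimension d (the published statement
has no such restriction), fixes dualizing complexes K on X and K' on Y with quasi-coherent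
cohomology concentrated in degree -d, and renders 'pseudo-rational modification' for χ (and likewise
ζ) as: χ is an isomorphism over an open V of X with dim O_{X,x} ≥ 2 off V and χ⁻¹V dense in Z, and
h^{-d} of the trace Rχ_* χ^! K → K is an epimorphism, χ^! being the right adjoint of Rχ_* on D_QCoh;
the vanishing is that of R^p χ_* h^{-d}(χ^! K) and of R^p ζ_* h^{-d}(ζ^! K') (both h^{-d}(χ^! K) and
h^{-d}(ζ^! K') are canonical sheaves of the Cohen–Macaulay scheme Z);
locally projective is taken as: locally on the target a closed immersion into a projective space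
over it. Existence of the derived functors and adjoints, preservation of D_QCoh and the exactness of
restriction to opens and of M ↦ M~ are carried as hypotheses; so are the derived direct images Rφ_*,
Rψ_* and R(φ∘χ)_*, R(ψ∘ζ)_* of the two composites Z → S, together with identifications Rφ_* ∘ Rχ_* ≅
R(φ∘χ)_* and Rψ_* ∘ Rζ_* ≅ R(ψ∘ζ)_* given as data (any such identifications; the conclusion does not
depend on their choice).

WHAT WAS CHANGED with respect to the frozen row S15718: the hypotheses `hGRχ` and `hGRζ`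
(Grauert–Riemenschneider vanishing for χ and ζ) were added, and `[HasInjectiveResolutions Z.Modules]`,
which is needed to write them (a property that always holds). Everything else is unchanged. The frozen
row is false without them: Groth/Agent/Refuted/S15718.lean; the vanishing is also necessary for χ and ζ to
be cohomological equivalences (Groth/Agent/RatSing/K289/GRConv.lean). -/
theorem result (S X Y Z : Scheme.{u}) (d : ℕ)
    [IsNoetherian X] [IsNoetherian Y] [IsLocallyNoetherian Z]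
    (hexcX : ∀ U : X.affineOpens, EGA4.IsExcellent Γ(X, U.1)) (hexcY : ∀ U : Y.affineOpens, EGA4.IsExcellent Γ(Y, U.1))
    (hexcZ : ∀ U : Z.affineOpens, EGA4.IsExcellent Γ(Z, U.1))
    (hcmX : ∀ x : X, LocCoh.IsCohenMacaulayLocalRing (X.presheaf.stalk x))
    (hcmY : ∀ y : Y, LocCoh.IsCohenMacaulayLocalRing (Y.presheaf.stalk y))
    (hcmZ : ∀ z : Z, LocCoh.IsCohenMacaulayLocalRing (Z.presheaf.stalk z))
    (hpdX : ∀ C ∈ irreducibleComponents (X : Type u), topologicalKrullDim C = d)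
    (hpdZ : ∀ C ∈ irreducibleComponents (Z : Type u), topologicalKrullDim C = d)
    (hpdY : ∀ C ∈ irreducibleComponents (Y : Type u), topologicalKrullDim C = d)
    [∀ (U : Scheme.{u}) (j : U ⟶ X) [IsOpenImmersion j], PreservesFiniteLimits (Scheme.Modules.restrictFunctor j)]
    [∀ (U : Scheme.{u}) (j : U ⟶ Y) [IsOpenImmersion j], PreservesFiniteLimits (Scheme.Modules.restrictFunctor j)]
    [∀ (R : CommRingCat.{u}), PreservesFiniteLimits (tilde.functor R)]
    (φ : X ⟶ S) (ψ : Y ⟶ S) (χ : Z ⟶ X) (ζ : Z ⟶ Y) [IsProper χ] [IsProper ζ] (hcomm : χ ≫ φ = ζ ≫ ψ)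
    (hprojχ : ∀ x : X, ∃ U : X.Opens, x ∈ U ∧ RelProj.IsHProjective (χ ∣_ U))
    (hprojζ : ∀ y : Y, ∃ U : Y.Opens, y ∈ U ∧ RelProj.IsHProjective (ζ ∣_ U))
    (V : X.Opens) (hV : ∀ x : X, x ∉ V → (2 : WithBot ℕ∞) ≤ ringKrullDim (X.presheaf.stalk x))
    (hVZ : Dense ((χ ⁻¹ᵁ V : Z.Opens) : Set Z)) [IsIso (χ ∣_ V)]
    (V' : Y.Opens) (hV' : ∀ y : Y, y ∉ V' → (2 : WithBot ℕ∞) ≤ ringKrullDim (Y.presheaf.stalk y))
    (hV'Z : Dense ((ζ ⁻¹ᵁ V' : Z.Opens) : Set Z)) [IsIso (ζ ∣_ V')]
    [DCoh.HasRpush χ] (hχ : DCoh.RpushPreservesQCoh χ) [DCoh.HasShriek χ hχ]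
    [DCoh.HasRpush ζ] (hζ : DCoh.RpushPreservesQCoh ζ) [DCoh.HasShriek ζ hζ]
    (K : DCoh.DQCoh X) (hK : Dual2.IsDualizingSch X K.obj) (hKd : ∀ i : ℤ, i ≠ -(d : ℤ) → IsZero (DCoh.HD K.obj i))
    (K' : DCoh.DQCoh Y) (hK' : Dual2.IsDualizingSch Y K'.obj) (hK'd : ∀ i : ℤ, i ≠ -(d : ℤ) → IsZero (DCoh.HD K'.obj i))
    (hsurjχ : Epi ((DerivedCategory.homologyFunctor X.Modules (-(d : ℤ))).map
      ((ObjectProperty.ι DCoh.IsQCohD).map ((DCoh.trace χ hχ).app K))))
    (hsurjζ : Epi ((DerivedCategory.homologyFunctor Y.Modules (-(d : ℤ))).map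
      ((ObjectProperty.ι DCoh.IsQCohD).map ((DCoh.trace ζ hζ).app K'))))
    [HasInjectiveResolutions Z.Modules]
    (hGRχ : ∀ p : ℕ, 0 < p →
      IsZero ((Coh.Rpush χ p).obj (DCoh.HD ((DCoh.shriek χ hχ).obj K).obj (-(d : ℤ)))))
    (hGRζ : ∀ p : ℕ, 0 < p →
      IsZero ((Coh.Rpush ζ p).obj (DCoh.HD ((DCoh.shriek ζ hζ).obj K').obj (-(d : ℤ)))))
    [DCoh.HasRpush φ] [DCoh.HasRpush ψ] [DCoh.HasRpush (χ ≫ φ)] [DCoh.HasRpush (ζ ≫ ψ)]
    (eφ : DCoh.Rpush χ ⋙ DCoh.Rpush φ ≅ DCoh.Rpush (χ ≫ φ)) (eψ : DCoh.Rpush ζ ⋙ DCoh.Rpush ψ ≅ DCoh.Rpush (ζ ≫ ψ)) :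
    Nonempty ((DCoh.Rpush φ).obj (DCoh.inD X (Coh.structureModule X)) ≅
      (DCoh.Rpush ψ).obj (DCoh.inD Y (Coh.structureModule Y))) := by
  obtain ⟨a⟩ := nonempty_iso d hcmZ χ V hVZ hχ K hK hKd hsurjχ hGRχ
  obtain ⟨b⟩ := nonempty_iso d hcmZ ζ V' hV'Z hζ K' hK' hK'd hsurjζ hGRζ
  obtain ⟨c⟩ := nonempty_rpush_iso_of_eq hcomm
  exact ⟨(DCoh.Rpush φ).mapIso a ≪≫ eφ.app _ ≪≫ c.app _ ≪≫ (eψ.app _).symm ≪≫
    ((DCoh.Rpush ψ).mapIso b).symm⟩

end Groth.Agent.Restated.S15718
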