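import Groth.Prelude.Def_Grpd
import Groth.Agent.Grpd.K741.SliceAsm
import Mathlib.AlgebraicGeometry.Morphisms.Flat
import Mathlib.AlgebraicGeometry.Morphisms.FinitePresentation
import Mathlib.AlgebraicGeometry.Morphisms.FiniteType
import Mathlib.AlgebraicGeometry.Morphisms.Immersion
import Mathlib.AlgebraicGeometry.Restrict
import Mathlib.Geometry.RingedSpace.LocallyRingedSpace.HasColimits

/-!
# S16047 restated
-/

set_option autoImplicit false
universe u
open CategoryTheory CategoryTheory.Limits AlgebraicGeometry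
open Grpd

namespace Groth.Agent.Restated.S16047

/-- **S16047 with `U` quasi-separated over `S`** (restated; the frozen statement has no separation
hypothesis on `U ⟶ S` and is false, see `Groth/Agent/Refuted/S16047.lean`: for the involution exchanging the
two copies of a doubled point, either the groupoid induced on `Z` is not quasi-compact over `Z` or `Z` is not
quasi-separated over `S`; the only change is the additional hypothesis `[QuasiSeparated G.pU]`).

Let (U, R, s, t, c) be a groupoid scheme over a scheme S with U, R locally of finite type over S and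
s, t flat and of finite presentation, and let x be a point of U closed in its fibre over S. Then
there are an R-saturated open V ∋ x of U and a subscheme Z of V such that: the groupoid R_Z induced
on Z is flat and of finite presentation; Z ⟶ V/R_V presents the ringed-space quotient V/R_V as the
quotient of Z by R_Z, and every V-valued point of U is fppf-locally R-equivalent to a point of Z (so
the fppf quotient sheaves agree too); Z meets the orbit of x in finitely many points; and when U is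
locally of finite presentation over S, Z is locally of finite presentation and quasi-separated over
S, and moreover quasi-compact over S if S is quasi-separated. (The published statement says that Z
may be taken of finite presentation over S whenever U is locally of finite presentation over S, with
no condition on S; the proof produces Z inside a closed subscheme cut out by finitely many equations
in an affine open of U, which is quasi-compact over S only when the base is quasi-separated: for the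
trivial groupoid on one chart of an infinite-dimensional affine space with doubled origin, at the
origin, no admissible Z is quasi-compact over S. So quasi-compactness of Z over S is asserted only
over a quasi-separated S.) -/
theorem result
    {S : Scheme.{u}} (G : Grpd.GroupoidScheme S)
    [LocallyOfFiniteType G.pU] [LocallyOfFiniteType G.pR] [QuasiSeparated G.pU]
    [Flat G.s] [LocallyOfFinitePresentation G.s] [QuasiCompact G.s] [QuasiSeparated G.s]
    [Flat G.t] [LocallyOfFinitePresentation G.t] [QuasiCompact G.t] [QuasiSeparated G.t]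
    (x : ↥G.U) (hx : closure ({x} : Set ↥G.U) ∩ G.pU ⁻¹' {G.pU x} = {x}) :
    ∃ (V : G.U.Opens) (hsat : G.s ⁻¹ᵁ V = G.t ⁻¹ᵁ V) (Z : Scheme.{u}) (ι : Z ⟶ G.U) (ιV : Z ⟶ (V : Scheme.{u})),
      x ∈ V ∧ IsImmersion ι ∧ ιV ≫ V.ι = ι ∧
      (Flat (pullback.fst (pullback.map (ι ≫ G.pU) (ι ≫ G.pU) G.pU G.pU ι ι (𝟙 S) (Category.comp_id _) (Category.comp_id _)) G.j ≫ pullback.fst (ι ≫ G.pU) (ι ≫ G.pU)) ∧ LocallyOfFinitePresentation (pullback.fst (pullback.map (ι ≫ G.pU) (ι ≫ G.pU) G.pU G.pU ι ι (𝟙 S) (Category.comp_id _) (Category.comp_id _)) G.j ≫ pullback.fst (ι ≫ G.pU) (ι ≫ G.pU)) ∧ QuasiCompact (pullback.fst (pullback.map (ι ≫ G.pU) (ι ≫ G.pU) G.pU G.pU ι ι (𝟙 S) (Category.comp_id _) (Category.comp_id _)) G.j ≫ pullback.fst (ι ≫ G.pU) (ι ≫ G.pU)) ∧ QuasiSeparated (pullback.fst (pullback.map (ι ≫ G.pU) (ι ≫ G.pU) G.pU G.pU ι ι (𝟙 S) (Category.comp_id _) (Category.comp_id _)) G.j ≫ pullback.fst (ι ≫ G.pU) (ι ≫ G.pU)) ∧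
       Flat (pullback.fst (pullback.map (ι ≫ G.pU) (ι ≫ G.pU) G.pU G.pU ι ι (𝟙 S) (Category.comp_id _) (Category.comp_id _)) G.j ≫ pullback.snd (ι ≫ G.pU) (ι ≫ G.pU)) ∧ LocallyOfFinitePresentation (pullback.fst (pullback.map (ι ≫ G.pU) (ι ≫ G.pU) G.pU G.pU ι ι (𝟙 S) (Category.comp_id _) (Category.comp_id _)) G.j ≫ pullback.snd (ι ≫ G.pU) (ι ≫ G.pU)) ∧ QuasiCompact (pullback.fst (pullback.map (ι ≫ G.pU) (ι ≫ G.pU) G.pU G.pU ι ι (𝟙 S) (Category.comp_id _) (Category.comp_id _)) G.j ≫ pullback.snd (ι ≫ G.pU) (ι ≫ G.pU)) ∧ QuasiSeparated (pullback.fst (pullback.map (ι ≫ G.pU) (ι ≫ G.pU) G.pU G.pU ι ι (𝟙 S) (Category.comp_id _) (Category.comp_id _)) G.j ≫ pullback.snd (ι ≫ G.pU) (ι ≫ G.pU))) ∧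
      (∃ (wR : (Scheme.forgetToLocallyRingedSpace ⋙ LocallyRingedSpace.forgetToSheafedSpace).map (pullback.fst (pullback.map (ι ≫ G.pU) (ι ≫ G.pU) G.pU G.pU ι ι (𝟙 S) (Category.comp_id _) (Category.comp_id _)) G.j ≫ pullback.fst (ι ≫ G.pU) (ι ≫ G.pU)) ≫ ((Scheme.forgetToLocallyRingedSpace ⋙ LocallyRingedSpace.forgetToSheafedSpace).map ιV ≫ coequalizer.π ((Scheme.forgetToLocallyRingedSpace ⋙ LocallyRingedSpace.forgetToSheafedSpace).map (G.s ∣_ V)) ((Scheme.forgetToLocallyRingedSpace ⋙ LocallyRingedSpace.forgetToSheafedSpace).map ((G.R.isoOfEq hsat).hom ≫ (G.t ∣_ V)))) = (Scheme.forgetToLocallyRingedSpace ⋙ LocallyRingedSpace.forgetToSheafedSpace).map (pullback.fst (pullback.map (ι ≫ G.pU) (ι ≫ G.pU) G.pU G.pU ι ι (𝟙 S) (Category.comp_id _) (Category.comp_id _)) G.j ≫ pullback.snd (ι ≫ G.pU) (ι ≫ G.pU)) ≫ ((Scheme.forgetToLocallyRingedSpace ⋙ LocallyRingedSpace.forgetToSheafedSpace).map ιV ≫ coequalizer.π ((Scheme.forgetToLocallyRingedSpace ⋙ LocallyRingedSpace.forgetToSheafedSpace).map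 (G.s ∣_ V)) ((Scheme.forgetToLocallyRingedSpace ⋙ LocallyRingedSpace.forgetToSheafedSpace).map ((G.R.isoOfEq hsat).hom ≫ (G.t ∣_ V))))),
         Nonempty (IsColimit (Cofork.ofπ ((Scheme.forgetToLocallyRingedSpace ⋙ LocallyRingedSpace.forgetToSheafedSpace).map ιV ≫ coequalizer.π ((Scheme.forgetToLocallyRingedSpace ⋙ LocallyRingedSpace.forgetToSheafedSpace).map (G.s ∣_ V)) ((Scheme.forgetToLocallyRingedSpace ⋙ LocallyRingedSpace.forgetToSheafedSpace).map ((G.R.isoOfEq hsat).hom ≫ (G.t ∣_ V)))) wR))) ∧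
      (∀ (T : Scheme.{u}) (v : T ⟶ G.U), Set.range ⇑v ⊆ (V : Set ↥G.U) →
         ∃ (T' : Scheme.{u}) (c : T' ⟶ T) (r : T' ⟶ G.R) (z : T' ⟶ Z),
           Flat c ∧ LocallyOfFinitePresentation c ∧ Surjective c ∧ r ≫ G.t = c ≫ v ∧ z ≫ ι = r ≫ G.s) ∧
      {z : ↥Z | ∃ r : ↥G.R, G.s r = x ∧ G.t r = ι z}.Finite ∧
      (LocallyOfFinitePresentation G.pU → LocallyOfFinitePresentation (ι ≫ G.pU) ∧ QuasiSeparated (ι ≫ G.pU) ∧
        (QuasiSeparatedSpace ↥S → QuasiCompact (ι ≫ G.pU))) := by
  obtain ⟨Z, hA, g, S₀, z, r₀, hS₀, hI, hP, hZ, hr₀, hr₀z, hF, hfin⟩ := K741.SliceEx.exists_slice G x hx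
  have hl : LocallyOfFinitePresentation (K393.Slice.src G g) := by
    have : LocallyOfFinitePresentation (pullback.snd g G.t) := inferInstance
    unfold K393.Slice.src
    infer_instance
  let V : G.U.Opens := ⟨Set.range ⇑(K393.Slice.src G g), (K393.Slice.src G g).isOpenMap.isOpen_range⟩
  have hV : Set.range ⇑(K393.Slice.src G g) = (V : Set G.U) := rfl
  have hsat := K741.SliceAsm.saturated G g V hV
  obtain ⟨ιV, hιV⟩ := K741.SliceAsm.exists_ιV G g V hV
  have hqc := K741.SliceAsm.quasiCompact_ta G g S₀ hS₀ hZ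
  have hqs := K741.SliceAsm.quasiSeparated_ta G g S₀ hS₀ hZ
  refine ⟨V, hsat, Z, g, ιV, (K741.SliceAsm.mem_V G g V hV x).2 ⟨z, r₀, hr₀z, hr₀⟩, hI, hιV,
    ⟨K741.SliceAsm.prop_ta G g @Flat hF, K741.SliceAsm.prop_ta G g @LocallyOfFinitePresentation hl,
      hqc.1, hqs.1, K741.SliceAsm.prop_sa G g @Flat hF,
      K741.SliceAsm.prop_sa G g @LocallyOfFinitePresentation hl, hqc.2, hqs.2⟩, ?_,
    fun T v hv => K741.SliceAsm.exists_cover G g V hV hF hl T v hv, hfin, fun hp => ?_⟩
  · exact K741.GrpdRS.nonempty_isColimit G g hF hl V hV hsat ιV hιV (K741.SliceAsm.ta G g)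
      (K741.SliceAsm.sa G g) (pullback.snd (K741.SliceAsm.mp G g) G.j) (K741.SliceAsm.ta_w G g)
      (K741.SliceAsm.sa_w G g) (fun z₁ z₂ r h₁ h₂ => K741.SliceAsm.exists_lift G g z₁ z₂ r h₁ h₂)
  · exact ⟨inferInstance, inferInstance, fun hS => inferInstance⟩

end Groth.Agent.Restated.S16047
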