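import Groth.Prelude.Def_StMod
import Groth.Prelude.Def_AlgSt3
import Groth.Prelude.Def_AlgSt2
import Groth.Prelude.Def_AlgSp3
import Groth.Prelude.Def_FlatMod2
import Groth.Agent.ResProp.K56.Main
import Groth.Agent.ResProp.K56.DMMain
import Groth.Agent.ResProp.K276.Geo
import Mathlib.AlgebraicGeometry.AffineScheme

/-!
# S16912 under additional hypotheses

S16912 (enough flat quasi-coherent modules on every quasi-compact algebraic stack with affine diagonal) is NOT refuted and
NOT proved; these are cases in which it is proved here: `result_DM` (Deligne-Mumford stacks, no condition on the base),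
`result` (a chart of finite weak dimension), `result_regular` (a regular chart of finite Krull dimension), `result_module`
(one module whose value on a chart has finite tor dimension).
-/

set_option autoImplicit false
universe u
open CategoryTheory CategoryTheory.Limits AlgebraicGeometry

namespace Groth.Agent.Restated.S16912

/-- **S16912 with a flat affine chart of finite weak dimension** (the frozen statement, plus: `U` an affine scheme over `S`,
`u : U ⟶ 𝒳` flat and surjective, and `n` such that every `Γ(U)`-module has tor dimension at most `n`). Let `S` be an affine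
scheme and `𝒳` an algebraic stack over `S` (fppf topology) that is quasi-compact and has affine diagonal over `S`, with
such a chart. Then every quasi-coherent module `M` on `𝒳` is a quotient of a flat quasi-coherent module. (The hypotheses that
`𝒳` is algebraic and quasi-compact are not used: only that `𝒳` is fibred in groupoids, with affine diagonal and with
the chart.) -/
theorem result (S : Scheme.{u}) [IsAffine S]
    (𝒳 : AlgSt.Cat S) (h𝒳 : AlgSt.IsAlgStack Scheme.fppfPrecoverage 𝒳) (_hqc : AlgSt.IsQuasiCompact 𝒳)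
    (hΔ : AlgSt.RepByAlgSpWith AlgSp.IsAffineMor (FibCat.diag (FibCat.toSelf 𝒳)))
    (U : Over S) [IsAffine U.left] (u : FibCat.overCat U ⥤ᵇ 𝒳)
    (huf : AlgSt.RepByAlgSpWith (AlgSp.LocP @Flat) u) (hus : AlgSt.RepByAlgSpWith AlgSp.IsSurjectiveMor u)
    (n : ℕ) (hn : ∀ (N : Type u) [AddCommGroup N] [Module Γ(U.left, ⊤) N], DRing.HasTorDimLE Γ(U.left, ⊤) n N)
    (M : StMod.QCoh 𝒳) :
    ∃ (F : StMod.QCoh 𝒳) (q : F ⟶ M),
      (∀ ξ : 𝒳.obj, FlatMod.IsFlat (F.obj.obj ξ)) ∧ StMod.Mod.IsSurj q.hom :=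
  K56.RP.exists_flat_of_chart' h𝒳.isStack.1 hΔ u huf hus n hn M

/-- **S16912 with a regular chart of finite dimension** (the frozen statement, plus: `U` an affine scheme over `S`, all of
whose local rings are regular, of Krull dimension at most `n`, and `u : U ⟶ 𝒳` flat and surjective). -/
theorem result_regular (S : Scheme.{u}) [IsAffine S]
    (𝒳 : AlgSt.Cat S) (h𝒳 : AlgSt.IsAlgStack Scheme.fppfPrecoverage 𝒳) (_hqc : AlgSt.IsQuasiCompact 𝒳)
    (hΔ : AlgSt.RepByAlgSpWith AlgSp.IsAffineMor (FibCat.diag (FibCat.toSelf 𝒳)))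
    (U : Over S) [IsAffine U.left] (hreg : ∀ x : U.left, IsRegularLocalRing (U.left.presheaf.stalk x))
    (n : ℕ) (hdim : topologicalKrullDim U.left ≤ n) (u : FibCat.overCat U ⥤ᵇ 𝒳)
    (huf : AlgSt.RepByAlgSpWith (AlgSp.LocP @Flat) u) (hus : AlgSt.RepByAlgSpWith AlgSp.IsSurjectiveMor u)
    (M : StMod.QCoh 𝒳) :
    ∃ (F : StMod.QCoh 𝒳) (q : F ⟶ M),
      (∀ ξ : 𝒳.obj, FlatMod.IsFlat (F.obj.obj ξ)) ∧ StMod.Mod.IsSurj q.hom :=
  K56.RP.exists_flat_of_regular h𝒳.isStack.1 hΔ u huf hus hreg n hdim M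

/-- **S16912 for one module of finite flat dimension** (no condition on the ring of the chart): if the value of `M` on an
affine flat surjective chart `u : U ⟶ 𝒳` has tor dimension at most `n`, then `M` is a quotient of a flat module. -/
theorem result_module (S : Scheme.{u}) [IsAffine S]
    (𝒳 : AlgSt.Cat S) (h𝒳 : AlgSt.IsAlgStack Scheme.fppfPrecoverage 𝒳) (_hqc : AlgSt.IsQuasiCompact 𝒳)
    (hΔ : AlgSt.RepByAlgSpWith AlgSp.IsAffineMor (FibCat.diag (FibCat.toSelf 𝒳)))
    (U : Over S) [IsAffine U.left] (u : FibCat.overCat U ⥤ᵇ 𝒳)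
    (huf : AlgSt.RepByAlgSpWith (AlgSp.LocP @Flat) u) (hus : AlgSt.RepByAlgSpWith AlgSp.IsSurjectiveMor u)
    (M : StMod.QCoh 𝒳) (n : ℕ)
    (hn : DRing.HasTorDimLE Γ(StMod.sch 𝒳 (u.obj (K734.Fib.one U)), ⊤) n Γ(M.obj.obj (u.obj (K734.Fib.one U)), ⊤)) :
    ∃ (F : StMod.QCoh 𝒳) (q : F ⟶ M),
      (∀ ξ : 𝒳.obj, FlatMod.IsFlat (F.obj.obj ξ)) ∧ StMod.Mod.IsSurj q.hom :=
  K56.RP.exists_flat_of_chart h𝒳.isStack.1 hΔ u huf hus M n hn

/-- **S16912 for Deligne-Mumford stacks** (the frozen statement, plus the hypothesis `AlgSt.IsDM`: `𝒳` has an étale surjective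
chart by a scheme). Let `S` be an affine scheme and `𝒳` a Deligne-Mumford stack over `S` (fppf topology) that is
quasi-compact and has affine diagonal over `S`. Then every quasi-coherent module `M` on `𝒳` is a quotient of a flat
quasi-coherent module. Neither `S` nor `𝒳` is supposed to be noetherian, regular, or of any characteristic. -/
theorem result_DM (S : Scheme.{u}) [IsAffine S]
    (𝒳 : AlgSt.Cat S) (h𝒳 : AlgSt.IsAlgStack Scheme.fppfPrecoverage 𝒳) (hqc : AlgSt.IsQuasiCompact 𝒳)
    (hΔ : AlgSt.RepByAlgSpWith AlgSp.IsAffineMor (FibCat.diag (FibCat.toSelf 𝒳)))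
    (hDM : AlgSt.IsDM Scheme.fppfPrecoverage 𝒳)
    (M : StMod.QCoh 𝒳) :
    ∃ (F : StMod.QCoh 𝒳) (q : F ⟶ M),
      (∀ ξ : 𝒳.obj, FlatMod.IsFlat (F.obj.obj ξ)) ∧ StMod.Mod.IsSurj q.hom := by
  obtain ⟨x₀, H, hE⟩ := K276.DMGeo.exists_chart hDM hqc hΔ
  exact K56.DM.exists_flat h𝒳.isStack.1 (K276.DMGeo.good h𝒳.isStack.1) H hE M

end Groth.Agent.Restated.S16912
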