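import Groth.Prelude.Def_FSch5
import Mathlib.CategoryTheory.ObjectProperty.Ind
import Mathlib.Algebra.Homology.ExactSequence
import Groth.Agent.FSch.K180.Main

/-!
# Row S17024 (`FSch.indCohF_of_exact_five`) restated and proved

The frozen row S17024 has no quasi-compactness hypothesis and is false as written (departures/helper180.md: on the
formal line over `k[[t]]` with infinitely many origins there is an extension of `O` by a countable direct sum of
copies of `O` which has no coherent submodule mapping onto a nonzero submodule of `O`).  The text states the result on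
a NOETHERIAN formal scheme.
-/

set_option autoImplicit false
open CategoryTheory CategoryTheory.Limits
universe u
open FSch

namespace Groth.Agent.Restated.S17024

/-- Let 𝔛 be a quasi-compact locally Noetherian (i.e. Noetherian) formal scheme (an adic system of thickenings with
locally Noetherian levels, quasi-compact) and F₀ ⟶ F₁ ⟶ F₂ ⟶ F₃ ⟶ F₄ an exact sequence of O_𝔛-modules. If F₀, F₁, F₃
and F₄ are each a small filtered colimit of coherent O_𝔛-modules, then so is F₂.

WHAT WAS CHANGED with respect to the frozen row S17024: the one binder `[CompactSpace (𝔛.X 0)]` is added (the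
underlying space of 𝔛, which is the common underlying space of all levels, is quasi-compact).  Nothing else is
different.  Without it the statement is false. -/
theorem result (𝔛 : FSch.Sys.{u}) (h𝔛 : 𝔛.IsLocNoethFormal) [CompactSpace (𝔛.X 0)]
    (S : ComposableArrows (FSch.ModF 𝔛 h𝔛.1) 4) (hS : S.Exact)
    (h₀ : (ObjectProperty.ind.{u} fun 𝔊 : FSch.ModF 𝔛 h𝔛.1 => FSch.IsCohF 𝔛 h𝔛.1 𝔊) (S.obj 0)) (h₁ : (ObjectProperty.ind.{u} fun 𝔊 : FSch.ModF 𝔛 h𝔛.1 => FSch.IsCohF 𝔛 h𝔛.1 𝔊) (S.obj 1)) (h₃ : (ObjectProperty.ind.{u} fun 𝔊 : FSch.ModF 𝔛 h𝔛.1 => FSch.IsCohF 𝔛 h𝔛.1 𝔊) (S.obj 3)) (h₄ : (ObjectProperty.ind.{u} fun 𝔊 : FSch.ModF 𝔛 h𝔛.1 => FSch.IsCohF 𝔛 h𝔛.1 𝔊) (S.obj 4)) :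
    (ObjectProperty.ind.{u} fun 𝔊 : FSch.ModF 𝔛 h𝔛.1 => FSch.IsCohF 𝔛 h𝔛.1 𝔊) (S.obj 2) := by
  have := K180.Main.isWeakSerre_ind h𝔛
  exact K919.SerreTors.prop_of_exact_five (K180.Main.Ind h𝔛) S hS h₀ h₁ h₃ h₄

end Groth.Agent.Restated.S17024
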