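import Groth.Agent.GrSegre.K119.KunDim
import Groth.Prelude.Def_GrLC
import Mathlib.RingTheory.GradedAlgebra.Basic
import Mathlib.RingTheory.TensorProduct.Basic
import Mathlib.RingTheory.FiniteType
import Mathlib.RingTheory.Noetherian.Defs
import Mathlib.LinearAlgebra.Span.Defs
import Mathlib.RingTheory.Ideal.Span
import Mathlib.LinearAlgebra.Dimension.Finrank
import Mathlib.Algebra.BigOperators.Group.Finset.Basic

set_option autoImplicit false
universe u
open scoped TensorProduct

namespace Groth.Agent.Restated.S18673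

/-- CORRECTED VERSION of row S18673. The only change: the two graded rings R and S are non-zero
(`[Nontrivial R]`, `[Nontrivial S]`); a graded ring defined over k has degree-zero part k, so it is
non-zero in the source, but the hypothesis R_0 = k·1 of the row also holds for the zero ring, over whose
degree-zero ring `Module.finrank` is 1, and there the equality fails. Everything else is word for word
the row.

The case M = R, N = S of the published statement, degree by degree. Let R and S be graded rings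
defined over a field k with Segre product T = R # S, write m = R_+, n = S_+, P = T_+, and assume
that H^q_m(R) and H^q_n(S) vanish for q = 0, 1. Then for every q ≥ 0, H^q_P(T) ≅ (R # H^q_n(S)) ⊕
(H^q_m(R) # S) ⊕ ⊕_{i+j=q+1} (H^i_m(R) # H^j_n(S)). Stated here degree by degree as the equality of
(finite) dimensions dim H^q_P(T)_d = dim R_d · dim H^q_n(S)_d + dim H^q_m(R)_d · dim S_d +
Σ_{i+j=q+1} dim H^i_m(R)_d · dim H^j_n(S)_d (the published statement is for graded modules M, N in
place of R, S and gives the isomorphism itself). Here a graded ring defined over k is a commutative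
k-algebra of finite type, graded in nonnegative degrees by k-subspaces with degree-zero part k·1;
the graded local cohomology pieces are computed from *injective resolutions in the graded categories
of R, S and T and their dimensions are taken over the respective degree-zero fields (all equal to
k); the Segre product T = ⊕_d R_d ⊗_k S_d is presented abstractly as a graded k-algebra T with an
injective k-algebra homomorphism ψ : T → R ⊗_k S carrying T_d onto the k-span of the elementary
tensors a ⊗ b with a ∈ R_d, b ∈ S_d. -/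
theorem result (k : Type u) [Field k] (R : Type u) [CommRing R] [Nontrivial R] [Algebra k R] (𝒜 : ℤ → Submodule k R) [GradedAlgebra 𝒜] (hposR : ∀ n : ℤ, n < 0 → 𝒜 n = ⊥) (h0R : 𝒜 0 = Submodule.span k {(1 : R)}) [Algebra.FiniteType k R] (S : Type u) [CommRing S] [Nontrivial S] [Algebra k S] (ℬ : ℤ → Submodule k S) [GradedAlgebra ℬ] (hposS : ∀ n : ℤ, n < 0 → ℬ n = ⊥) (h0S : ℬ 0 = Submodule.span k {(1 : S)}) [Algebra.FiniteType k S] (T : Type u) [CommRing T] [Algebra k T] (𝒯 : ℤ → Submodule k T) [GradedAlgebra 𝒯] (ψ : T →ₐ[k] TensorProduct k R S) (hψ : Function.Injective ψ) (hdegT : ∀ n : ℤ, (𝒯 n).map ψ.toLinearMap = Submodule.span k {x : TensorProduct k R S | ∃ a ∈ 𝒜 n, ∃ b ∈ ℬ n, x = a ⊗ₜ[k] b}) (mR : HomogeneousIdeal 𝒜) (hmR : mR.toIdeal = Ideal.span (⋃ n ∈ Set.Ioi (0 : ℤ), (𝒜 n : Set R))) (I : GrLC.StarInjRes 𝒜 𝒜) (mS : HomogeneousIdeal ℬ) (hmS : mS.toIdeal = Ideal.span (⋃ n ∈ Set.Ioi (0 : ℤ), (ℬ n : Set S))) (J : GrLC.StarInjRes ℬ ℬ) (mT : HomogeneousIdeal 𝒯) (hmT : mT.toIdeal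 = Ideal.span (⋃ n ∈ Set.Ioi (0 : ℤ), (𝒯 n : Set T))) (IT : GrLC.StarInjRes 𝒯 𝒯) (hR : ∀ (q : ℕ) (d : ℤ), q ≤ 1 → I.Hcomp mR q d = ⊥) (hS : ∀ (q : ℕ) (d : ℤ), q ≤ 1 → J.Hcomp mS q d = ⊥) (q : ℕ) (d : ℤ) : Module.finrank (GrLC.deg0 𝒯) (IT.Hcomp mT q d) = Module.finrank k (𝒜 d) * Module.finrank (GrLC.deg0 ℬ) (J.Hcomp mS q d) + Module.finrank (GrLC.deg0 𝒜) (I.Hcomp mR q d) * Module.finrank k (ℬ d) + (Finset.range (q + 2)).sum (fun i => Module.finrank (GrLC.deg0 𝒜) (I.Hcomp mR i d) * Module.finrank (GrLC.deg0 ℬ) (J.Hcomp mS (q + 1 - i) d)) := by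
  have hT : GrSeg.IsSegreRing 𝒜 ℬ 𝒯 ψ := ⟨hψ, hdegT⟩
  have eR : K962.Pieces.kp (k := k) 𝒜 𝒜 d = 𝒜 d := Submodule.ext fun x => Iff.rfl
  have eS : K962.Pieces.kp (k := k) ℬ ℬ d = ℬ d := Submodule.ext fun x => Iff.rfl
  have hR' : Module.finrank k (𝒜 d) = Module.finrank (GrLC.deg0 𝒜) (GrLC.comp 𝒜 𝒜 d) :=
    (congrArg (fun W : Submodule k R => Module.finrank k W) eR).symm.trans
      (K962.Fld.finrank_comp_kp (ℳ := 𝒜) h0R d).symm
  have hS' : Module.finrank k (ℬ d) = Module.finrank (GrLC.deg0 ℬ) (GrLC.comp ℬ ℬ d) :=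
    (congrArg (fun W : Submodule k S => Module.finrank k W) eS).symm.trans
      (K962.Fld.finrank_comp_kp (ℳ := ℬ) h0S d).symm
  rw [hR', hS']
  exact K119.KunDim.finrank_Hcomp h0R h0S hT hmR hmS hmT (K962.Pieces.isSegreMod_ring hT) I J IT hR hS q d

end Groth.Agent.Restated.S18673
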