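import Groth.Prelude.Def_LefPen
import Groth.Prelude.Def_Omega2
import Groth.Prelude.Def_ExtPow2
import Groth.Prelude.Def_Coh
import Mathlib.AlgebraicGeometry.Morphisms.Smooth
import Mathlib.LinearAlgebra.Dimension.Finrank
import Mathlib.RingTheory.PowerSeries.Basic
import Mathlib.FieldTheory.IsAlgClosed.Basic
import Groth.Agent.LefPen.K568.HirzFinal

/-!
# S19490, restated

The row S19490 is false as written: in the hypothesis
`hy : y = algebraMap (Polynomial ℤ) (PowerSeries (Polynomial ℤ)) Polynomial.X` the algebra structure found by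
instance search is `PowerSeries.algebraPolynomial` (polynomials in the *power series variable*), so that `y` is the
variable `z` of the power series ring and not the constant series `y ∈ ℤ[y]`.  The only change made here is that `y`
is the constant series `PowerSeries.C X` of the docstring; all other hypotheses and the conclusion are those of the row.
-/

set_option autoImplicit false
universe u
open CategoryTheory CategoryTheory.Limits AlgebraicGeometry

namespace Groth.Agent.Restated.S19490

open LefPen

/-- **Restatement of S19490.**  Let k be an algebraically closed field of characteristic zero and a ≥ 1. For every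
n ≥ 0 let Z_{n+1} ⊂ P^{n+1}_k be the zero scheme of a form of degree a, smooth over k of relative dimension n (a
smooth hypersurface of degree a), and let χ_y(Z_{n+1}) = Σ_p χ(Z_{n+1}, Ω^p) y^p = Σ_{p, q ≤ n}
(−1)^q dim_k H^q(Z_{n+1}, Ω^p) y^p ∈ ℤ[y] be its Hirzebruch genus, where Ω^p is any p-th exterior
power of the sheaf of differentials of Z_{n+1} over k and cohomology carries the k-structure coming
from the structure morphism. Then the generating series Σ_{n ≥ 1} χ_y(Z_n) z^n ∈ ℤ[y]⟦z⟧ equals ((1
+ yz)^a − (1 − z)^a) / ((1 − z)(1 + yz)((1 + yz)^a + y(1 − z)^a)); it is stated here cleared of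
denominators, the denominator having constant term 1 + y.

WHAT WAS CHANGED with respect to the row: the hypothesis `hy` reads `y = PowerSeries.C Polynomial.X` (the constant
power series y ∈ ℤ[y] ⊂ ℤ[y]⟦z⟧) instead of
`y = algebraMap (Polynomial ℤ) (PowerSeries (Polynomial ℤ)) Polynomial.X`, which elaborates to the instance
`PowerSeries.algebraPolynomial` and sends `Polynomial.X` to the power series variable z (then the identity is false
already for a = 1: it would give χ_1 = 1 instead of 1 − y).  Nothing else was changed.  (The proof does not use that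
k is algebraically closed of characteristic zero.) -/
theorem result (k : Type u) [Field k] [IsAlgClosed k] [CharZero k]
    (a : ℕ) (ha : 1 ≤ a) (G : ∀ n : ℕ, LefPen.Form (n + 1) k a)
    [∀ n : ℕ, SmoothOfRelativeDimension n ((LefPen.hypIdeal (G n)).subschemeι ≫ CohB1.ProjSpace.toSpec (n + 1) k)]
    [hO : ∀ n : ℕ, (LefPen.hypIdeal (G n)).subscheme.Over (Spec (CommRingCat.of k))]
    (hover : ∀ n : ℕ, (LefPen.hypIdeal (G n)).subscheme ↘ Spec (CommRingCat.of k) = ((LefPen.hypIdeal (G n)).subschemeι ≫ CohB1.ProjSpace.toSpec (n + 1) k))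
    (L : ∀ n : ℕ, ℕ → (LefPen.hypIdeal (G n)).subscheme.Modules)
    (hL : ∀ n p : ℕ, ExtPow.IsExtPow p (Omega.sheaf ((LefPen.hypIdeal (G n)).subschemeι ≫ CohB1.ProjSpace.toSpec (n + 1) k)) (L n p))
    (χ : ℕ → Polynomial ℤ)
    (hχ : ∀ n : ℕ, χ n = ∑ p ∈ Finset.range (n + 1),
      Polynomial.C (∑ q ∈ Finset.range (n + 1), (-1 : ℤ) ^ q * (Module.finrank k (Coh.HH (LefPen.hypIdeal (G n)).subscheme (L n p) q) : ℤ)) *
        Polynomial.X ^ p)
    (y : PowerSeries (Polynomial ℤ)) (hy : y = PowerSeries.C (Polynomial.X : Polynomial ℤ)) :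
    (1 - PowerSeries.X) * (1 + y * PowerSeries.X) *
        ((1 + y * PowerSeries.X) ^ a + y * (1 - PowerSeries.X) ^ a) *
        (PowerSeries.X * PowerSeries.mk χ) =
      (1 + y * PowerSeries.X) ^ a - (1 - PowerSeries.X) ^ a :=
  K568.HirzFinal.main k a ha G hover L hL χ hχ y hy

end Groth.Agent.Restated.S19490
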