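import Groth.Prelude.Def_GrSeg
import Groth.Prelude.Def_GrLC
import Mathlib.RingTheory.GradedAlgebra.Basic
import Mathlib.RingTheory.TensorProduct.Basic
import Mathlib.RingTheory.FiniteType
import Mathlib.LinearAlgebra.Span.Defs
import Mathlib.RingTheory.Ideal.Span
import Mathlib.LinearAlgebra.Dimension.Finrank
import Mathlib.Algebra.BigOperators.Group.Finset.Basic
import Mathlib.RingTheory.Finiteness.Defs
import Groth.Agent.GrSegre.K509.KunFour

/-!
# Row S19765 (`GrSegre.finrank_Hcomp_segreProduct_modules_eq_of_depth_two`) restated and proved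

The frozen row S19765 does not ask that `R` and `S` are nonzero.  Over the zero ring `S` (the hypothesis
`S_0 = k·1` does not exclude it) Mathlib's `finrank` of the zero module over the zero ring is `1`, so both sides count
wrongly and the frozen statement is false (for instance for `S = 0`, `T = 0`, `M = R = k[x, y]`, `q = 0`, `d = 1`, where
it says `1 = 2 * 1 + 0 * 1 + 0`).  The text works with graded
rings DEFINED OVER A FIELD `k`, that is with degree-zero part equal to the field `k`, so they are nonzero rings.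
-/

set_option autoImplicit false
universe u
open scoped TensorProduct

namespace Groth.Agent.Restated.S19765

/-- Let R and S be graded rings defined over a field k with m = R_+, n = S_+, T = R # S with irrelevant
ideal T_+, and let M be a finitely generated graded R-module and N a finitely generated graded
S-module such that H^q_m(M) and H^q_n(N) vanish for q = 0, 1. Then for every q ≥ 0, H^q_{T_+}(M # N)
≅ (M # H^q_n(N)) ⊕ (H^q_m(M) # N) ⊕ ⊕_{i+j=q+1} (H^i_m(M) # H^j_n(N)); stated here degree by degree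
as the equality of finite dimensions dim H^q_{T_+}(M # N)_d = dim M_d · dim H^q_n(N)_d + dim
H^q_m(M)_d · dim N_d + Σ_{i+j=q+1} dim H^i_m(M)_d · dim H^j_n(N)_d (the published statement is for
arbitrary graded M, N and gives the isomorphism itself; finite generation makes every dimension
finite). Here a graded ring defined over k is a commutative k-algebra of finite type, graded in
nonnegative degrees by k-subspaces with degree-zero part k·1; the Segre product T = R # S = ⊕_n R_n
⊗_k S_n is presented abstractly as a graded k-algebra T with an injective k-algebra homomorphism ψ :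
T → R ⊗_k S carrying T_n onto the k-span of the elementary tensors a ⊗ b with a ∈ R_n, b ∈ S_n; the
Segre product M # N = ⊕_n M_n ⊗_k N_n of a graded R-module M and a graded S-module N is presented
abstractly as a graded T-module P with an injective k-linear map φ : P → M ⊗_k N carrying P_n onto
the k-span of the tensors x ⊗ y with x ∈ M_n, y ∈ N_n and turning the action of t ∈ T into that of
ψ(t) (acting factorwise on M ⊗_k N); the graded local cohomology pieces are computed from *injective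
resolutions in the graded categories of R, S and T and their dimensions are taken over the
respective degree-zero fields (all equal to k).

WHAT WAS CHANGED with respect to the frozen row S19765: the two binders `[Nontrivial R]` and `[Nontrivial S]` are added
(the degree-zero parts `k·1` are the field `k`, as in the text, and not zero).  Nothing else is different.  Without them
the statement is false: `finrank` over the zero ring is `1`. -/
theorem result (k : Type u) [Field k] (R : Type u) [CommRing R] [Nontrivial R] [Algebra k R] (𝒜 : ℤ → Submodule k R) [GradedAlgebra 𝒜] (hposR : ∀ n : ℤ, n < 0 → 𝒜 n = ⊥) (h0R : 𝒜 0 = Submodule.span k {(1 : R)}) [Algebra.FiniteType k R] (S : Type u) [CommRing S] [Nontrivial S] [Algebra k S] (ℬ : ℤ → Submodule k S) [GradedAlgebra ℬ] (hposS : ∀ n : ℤ, n < 0 → ℬ n = ⊥) (h0S : ℬ 0 = Submodule.span k {(1 : S)}) [Algebra.FiniteType k S] (T : Type u) [CommRing T] [Algebra k T] (𝒯 : ℤ → Submodule k T) [GradedAlgebra 𝒯] (ψ : T →ₐ[k] TensorProduct k R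 S) (hT : GrSeg.IsSegreRing 𝒜 ℬ 𝒯 ψ) (mR : HomogeneousIdeal 𝒜) (hmR : mR.toIdeal = Ideal.span (⋃ n ∈ Set.Ioi (0 : ℤ), (𝒜 n : Set R))) (mS : HomogeneousIdeal ℬ) (hmS : mS.toIdeal = Ideal.span (⋃ n ∈ Set.Ioi (0 : ℤ), (ℬ n : Set S))) (mT : HomogeneousIdeal 𝒯) (hmT : mT.toIdeal = Ideal.span (⋃ n ∈ Set.Ioi (0 : ℤ), (𝒯 n : Set T))) (M : Type u) [AddCommGroup M] [Module R M] [Module k M] [IsScalarTower k R M] (ℳ : ℤ → AddSubgroup M) [DirectSum.Decomposition ℳ] [SetLike.GradedSMul 𝒜 ℳ] [Module.Finite R M] (EM : GrLC.StarInjRes 𝒜 ℳ) (N : Type u) [AddCommGroup N] [Module S N] [Module k N] [IsScalarTower k S N] (𝒩 : ℤ → AddSubgroup N) [DirectSum.Decomposition 𝒩] [SetLike.GradedSMul ℬ 𝒩] [Module.Finite S N] (EN : GrLC.StarInjRes ℬ 𝒩) (P : Type u) [AddCommGroup P] [Module T P] [Module k P] [IsScalarTower k T P] (𝒬 : ℤ → AddSubgroup P) [DirectSum.Decomposition 𝒬] [SetLike.GradedSMul 𝒯 𝒬] (φ : P →ₗ[k] TensorProduct k M N) (hP : GrSeg.IsSegreMod ψ ℳ 𝒩 𝒬 φ) (EP : GrLC.StarInjRes 𝒯 𝒬) (hM : ∀ (q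 : ℕ) (d : ℤ), q ≤ 1 → EM.Hcomp mR q d = ⊥) (hN : ∀ (q : ℕ) (d : ℤ), q ≤ 1 → EN.Hcomp mS q d = ⊥) (q : ℕ) (d : ℤ) : Module.finrank (GrLC.deg0 𝒯) (EP.Hcomp mT q d) = Module.finrank (GrLC.deg0 𝒜) (GrLC.comp 𝒜 ℳ d) * Module.finrank (GrLC.deg0 ℬ) (EN.Hcomp mS q d) + Module.finrank (GrLC.deg0 𝒜) (EM.Hcomp mR q d) * Module.finrank (GrLC.deg0 ℬ) (GrLC.comp ℬ 𝒩 d) + (Finset.range (q + 2)).sum (fun i => Module.finrank (GrLC.deg0 𝒜) (EM.Hcomp mR i d) * Module.finrank (GrLC.deg0 ℬ) (EN.Hcomp mS (q + 1 - i) d)) := by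
  have hM0 : Subsingleton (EM.H mR 0) := K963.Iface.subsingleton_of_Hcomp_eq_bot EM mR 0 fun g => hM 0 g zero_le_one
  have hM1 : Subsingleton (EM.H mR 1) := K963.Iface.subsingleton_of_Hcomp_eq_bot EM mR 1 fun g => hM 1 g le_rfl
  have hN0 : Subsingleton (EN.H mS 0) := K963.Iface.subsingleton_of_Hcomp_eq_bot EN mS 0 fun g => hN 0 g zero_le_one
  have hN1 : Subsingleton (EN.H mS 1) := K963.Iface.subsingleton_of_Hcomp_eq_bot EN mS 1 fun g => hN 1 g le_rfl
  have hTn : Nontrivial T := K509.KunFour.nontrivial_T hT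
  have h0T : 𝒯 0 = Submodule.span k {(1 : T)} := K509.KunFour.zero_T hT h0R h0S
  have : Nontrivial (GrLC.deg0 𝒜) := (K962.Fld.toDeg0_bijective h0R).1.nontrivial
  have : Nontrivial (GrLC.deg0 ℬ) := (K962.Fld.toDeg0_bijective h0S).1.nontrivial
  have : Nontrivial (GrLC.deg0 𝒯) := (K962.Fld.toDeg0_bijective h0T).1.nontrivial
  have hA0 : ∀ q, q ≤ 1 → Module.finrank (GrLC.deg0 𝒜) (EM.Hcomp mR q d) = 0 := fun q hq => by
    rw [hM q d hq]; exact finrank_bot _ _
  have hB0 : ∀ q, q ≤ 1 → Module.finrank (GrLC.deg0 ℬ) (EN.Hcomp mS q d) = 0 := fun q hq => by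
    rw [hN q d hq]; exact finrank_bot _ _
  obtain ⟨A, B, ε, η, hSA, hSB, z0, z1, zk⟩ := K963.Low.kunneth0 hT hmR hmS hmT hP EM EN EP
  match q with
  | 0 =>
    rw [K509.SegSide.low_zero hP hSA hSB hM0 hN0 z0 d, finrank_bot, hA0 0 zero_le_one, hB0 0 zero_le_one,
      Finset.sum_range_succ, Finset.sum_range_succ, Finset.sum_range_zero, hA0 0 zero_le_one, hA0 (0 + 1) le_rfl]
    ring
  | 1 =>
    rw [K509.SegSide.low_one hP hSA hSB hM1 hN1 z1 d, finrank_bot, hA0 1 le_rfl, hB0 1 le_rfl,
      Finset.sum_range_succ, Finset.sum_range_succ, Finset.sum_range_succ, Finset.sum_range_zero,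
      hA0 0 zero_le_one, hA0 (0 + 1) le_rfl, show 1 + 1 - (0 + 1 + 1) = 0 from rfl, hB0 0 zero_le_one]
    ring
  | n + 2 =>
    obtain ⟨κ, hκ, h1, h2, h3⟩ := zk n
    have e := K509.SegSide.sum_antidiagonal_eq
      (fun p => Module.finrank k (K962.Seg.kg (A p) d)) (fun p => Module.finrank k (K962.Seg.kg (B p) d))
      (fun p => Module.finrank (GrLC.deg0 𝒜) (EM.Hcomp mR p d))
      (fun p => Module.finrank (GrLC.deg0 ℬ) (EN.Hcomp mS p d)) n
      (fun p => K509.SegSide.finrank_succ h0R hSA p d) (fun p => K509.SegSide.finrank_succ h0S hSB p d)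
      (hA0 0 zero_le_one) (hA0 1 le_rfl) (hB0 0 zero_le_one) (hB0 1 le_rfl)
    rw [K509.SegSide.finrank_zero h0R hSA hM0 hM1 d, K509.SegSide.finrank_zero h0S hSB hN0 hN1 d] at e
    exact (K509.KunFour.finrank_Hcomp h0T n d (fun p => K509.SegSide.finite_kg h0R hmR hSA hM0 hM1 p d)
      (fun p => K509.SegSide.finite_kg h0S hmS hSB hN0 hN1 p d) κ hκ h1 h2 h3).trans e

end Groth.Agent.Restated.S19765
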