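import Groth.Agent.EtAlg.K420.EtClosed
import Groth.Agent.EtAlg.K420.ReflectSol
import Groth.Prelude.Def_EtRam

/-!
# S7162, restated

The frozen statement `EtAlg.exists_strictly_henselian_extension_reflecting_solutions` is false: its clause on WEAK
solutions fails (see `departures/helper875.md`, `helper727.md`, `helper834.md`, `helper363.md`).

* `result` is the frozen statement WITHOUT the clause on weak solutions; nothing else is changed.
* `result_weak` is a stronger version, in which the clause on weak solutions is kept for the weak solutions `K₁/K'`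
  which are generated over `K'` by a normal extension `N/K` (for example those which are normal over `K`).

The proof: `Ω` is an algebraic closure of `L`, `O` a valuation subring of `Ω` dominating `B`; `L'` is a maximal
unramified extension of `L` in `Ω` and `K'` a maximal unramified extension of `K` in `L'`; both are closed under
adjoining simple roots of integral polynomials, so that their residue fields are separably closed.  A solution for
`A' ⊆ B'` comes from a finite extension `E/K`, `O ∩ E → O ∩ E K'` is formally smooth, so `O ∩ E → O ∩ E L` is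
formally smooth, and the normal closure of `E` is a solution for `A ⊆ B`.
-/

set_option autoImplicit false
universe u

open IsLocalRing EtRam Groth.Agent.Etalg Groth.Agent.Etalg.RamBasic Groth.Agent.Etalg.ResInd
  K420.EtClosed K420.ReflectSol

namespace Groth.Agent.Restated.S7162

/-- Let A → B be an injective local homomorphism of discrete valuation rings whose fields of fractions
are K ⊆ L. There is a commutative square of such extensions A ⊆ A', B ⊆ B', A' ⊆ B' (with fraction
fields K', L') such that (1) K'/K and L'/L are separable algebraic, (2) the residue field of A' is a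
separable algebraic closure of that of A, and likewise for B' over B, and (3) whenever A' ⊆ B'
admits a solution (respectively a separable solution, respectively a weak solution K₁ which is generated over K'
by a normal extension N of K), A ⊆ B admits a solution (respectively a separable solution, respectively a weak
solution).

WHAT WAS CHANGED: in the frozen statement S7162 the last part of (3) is claimed for all weak solutions, which is
false; here K₁ = K' N with N/K normal is asked. -/
theorem result_weak (A B K L : Type u) [CommRing A] [IsDomain A]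
    [IsDiscreteValuationRing A] [CommRing B] [IsDomain B] [IsDiscreteValuationRing B] [Algebra A B]
    (hinj : Function.Injective (algebraMap A B)) [IsLocalHom (algebraMap A B)]
    [Field K] [Field L] [Algebra A K] [IsFractionRing A K] [Algebra B L] [IsFractionRing B L]
    [Algebra K L] [Algebra A L] [IsScalarTower A K L] [IsScalarTower A B L] :
    ∃ (A' B' K' L' : Type u) (_ : CommRing A') (_ : IsDomain A') (_ : IsDiscreteValuationRing A')
      (_ : CommRing B') (_ : IsDomain B') (_ : IsDiscreteValuationRing B') (_ : Field K') (_ : Field L')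
      (_ : Algebra A A') (_ : Algebra B B') (_ : Algebra A' B') (_ : Algebra A B')
      (_ : IsScalarTower A B B') (_ : IsScalarTower A A' B')
      (_ : Algebra A' K') (_ : IsFractionRing A' K') (_ : Algebra B' L') (_ : IsFractionRing B' L')
      (_ : Algebra K' L') (_ : Algebra A' L') (_ : IsScalarTower A' K' L') (_ : IsScalarTower A' B' L')
      (_ : Algebra K K') (_ : Algebra A K') (_ : IsScalarTower A K K') (_ : IsScalarTower A A' K')
      (_ : Algebra L L') (_ : Algebra B L') (_ : IsScalarTower B L L') (_ : IsScalarTower B B' L')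
      (hA : IsLocalHom (algebraMap A A')) (hB : IsLocalHom (algebraMap B B')) (_ : IsLocalHom (algebraMap A' B')),
      Function.Injective (algebraMap A A') ∧ Function.Injective (algebraMap B B') ∧
      Function.Injective (algebraMap A' B') ∧
      Algebra.IsSeparable K K' ∧ Algebra.IsSeparable L L' ∧
      (letI := (IsLocalRing.ResidueField.map (algebraMap A A')).toAlgebra
       IsSepClosure (IsLocalRing.ResidueField A) (IsLocalRing.ResidueField A')) ∧
      (letI := (IsLocalRing.ResidueField.map (algebraMap B B')).toAlgebra
       IsSepClosure (IsLocalRing.ResidueField B) (IsLocalRing.ResidueField B')) ∧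
      ((∃ (K₁ : Type u) (_ : Field K₁) (_ : Algebra K' K₁), FiniteDimensional K' K₁ ∧ EtRam.IsSolution B' K' L' K₁) →
        ∃ (K₁ : Type u) (_ : Field K₁) (_ : Algebra K K₁), FiniteDimensional K K₁ ∧ EtRam.IsSolution B K L K₁) ∧
      ((∃ (K₁ : Type u) (_ : Field K₁) (_ : Algebra K' K₁) (_ : Algebra K K₁) (_ : IsScalarTower K K' K₁)
          (N : IntermediateField K K₁), FiniteDimensional K' K₁ ∧ Normal K N ∧
          Algebra.adjoin K' (N : Set K₁) = ⊤ ∧ EtRam.IsWeakSolution B' K' L' K₁) →
        ∃ (K₁ : Type u) (_ : Field K₁) (_ : Algebra K K₁), FiniteDimensional K K₁ ∧ EtRam.IsWeakSolution B K L K₁) ∧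
      ((∃ (K₁ : Type u) (_ : Field K₁) (_ : Algebra K' K₁), FiniteDimensional K' K₁ ∧ Algebra.IsSeparable K' K₁ ∧
          EtRam.IsSolution B' K' L' K₁) →
        ∃ (K₁ : Type u) (_ : Field K₁) (_ : Algebra K K₁), FiniteDimensional K K₁ ∧ Algebra.IsSeparable K K₁ ∧
          EtRam.IsSolution B K L K₁) := by
  let Ω := AlgebraicClosure L
  obtain ⟨O, hOB⟩ := exists_dominates (toΩ B L Ω)
  have hcomp : (toΩ B L Ω).comp (algebraMap A B) = toΩ A K Ω := by
    ext a
    show algebraMap L Ω (algebraMap B L (algebraMap A B a)) = algebraMap K Ω (algebraMap A K a)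
    rw [← IsScalarTower.algebraMap_apply A B L, IsScalarTower.algebraMap_apply A K L,
      ← IsScalarTower.algebraMap_apply K L Ω]
  have hOA : Dominates A (toΩ A K Ω) O := by
    rw [← hcomp]
    refine ⟨fun a => hOB.1 _, fun a ha => hOB.2 _ ?_⟩
    exact (((local_hom_TFAE (algebraMap A B)).out 0 2 rfl rfl).mp ‹_›) (Ideal.mem_map_of_mem _ ha)
  obtain ⟨π, hπ⟩ := IsDiscreteValuationRing.exists_irreducible A
  obtain ⟨ρ, hρ⟩ := IsDiscreteValuationRing.exists_irreducible B
  obtain ⟨L', hL', hLmax⟩ := exists_maximal (K := L) (Good B L O ρ) (good_algebraMap hOB hρ)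
  obtain ⟨K', hK', hKmax⟩ := exists_maximal (K := K) (fun x : Ω => Good A K O π x ∧ x ∈ L')
    (fun x => ⟨good_algebraMap hOA hπ x, by
      rw [IsScalarTower.algebraMap_apply K L Ω]
      exact L'.algebraMap_mem _⟩)
  have hLcl : SRClosed O (L' : Set Ω) := by
    intro p hp hc α hα hd
    obtain ⟨M, hM1, hM2, hM3, -⟩ := good_step hOB hρ L' hL' p hp hc α hα hd
    exact hLmax M hM1 hM3 hM2
  have hKcl : SRClosed O (K' : Set Ω) := by
    intro p hp hc α hα hd
    have hαL : α ∈ L' := hLcl p hp (fun n => ⟨(hK' _ (hc n).1).2, (hc n).2⟩) α hα hd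
    obtain ⟨M, hM1, hM2, hM3, hM4⟩ := good_step hOA hπ K' (fun x hx => (hK' x hx).1) p hp hc α hα hd
    exact hKmax M hM1 (fun x hx => ⟨hM3 x hx, hM4 L'.toSubfield (fun x hx => (hK' x hx).2) hαL x hx⟩) hM2
  have hK'g : ∀ x ∈ K', Good A K O π x := fun x hx => (hK' x hx).1
  -- the rings `A'` and `B'`
  let A' := O.comap (algebraMap K' Ω)
  let B' := O.comap (algebraMap L' Ω)
  have dA : IsDiscreteValuationRing A' := isDVR_good hOA hπ K' hK'g
  have dB : IsDiscreteValuationRing B' := isDVR_good hOB hρ L' hL'
  let gA : A →+* K' := (algebraMap K K').comp (algebraMap A K)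
  let gB : B →+* L' := (algebraMap L L').comp (algebraMap B L)
  have hdA : Dominates A gA A' := (dominates_comp_iff gA (algebraMap K' Ω) O).1 hOA
  have hdB : Dominates B gB B' := (dominates_comp_iff gB (algebraMap L' Ω) O).1 hOB
  let iA : Algebra A A' := (RingHom.codRestrict gA A' hdA.1).toAlgebra
  have lA : IsLocalHom (algebraMap A A') := Dominates.isLocalHom hdA
  let iB : Algebra B B' := (RingHom.codRestrict gB B' hdB.1).toAlgebra
  have lB : IsLocalHom (algebraMap B B') := Dominates.isLocalHom hdB
  let kl : K' →+* L' := (algebraMap K' Ω).codRestrict L' (fun x => (hK' x x.2).2)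
  let iKL : Algebra K' L' := kl.toAlgebra
  let ab : A' →+* B' := inclOfComap B' kl
  have lab : IsLocalHom ab := isLocalHom_inclOfComap B' kl
  let iAB' : Algebra A' B' := ab.toAlgebra
  have lAB' : IsLocalHom (algebraMap A' B') := lab
  let iAB : Algebra A B' := ((algebraMap B B').comp (algebraMap A B)).toAlgebra
  have t1 : IsScalarTower A B B' := IsScalarTower.of_algebraMap_eq' rfl
  have t2 : IsScalarTower A A' B' := IsScalarTower.of_algebraMap_eq fun a =>
    Subtype.ext (Subtype.ext (congrArg (fun g : A →+* Ω => g a) hcomp))
  let iA'L' : Algebra A' L' := (kl.comp (algebraMap A' K')).toAlgebra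
  have t3 : IsScalarTower A' K' L' := IsScalarTower.of_algebraMap_eq' rfl
  have t4 : IsScalarTower A' B' L' := IsScalarTower.of_algebraMap_eq fun _ => rfl
  let iAK' : Algebra A K' := gA.toAlgebra
  have t5 : IsScalarTower A K K' := IsScalarTower.of_algebraMap_eq fun _ => rfl
  have t6 : IsScalarTower A A' K' := IsScalarTower.of_algebraMap_eq fun _ => rfl
  let iBL' : Algebra B L' := gB.toAlgebra
  have t7 : IsScalarTower B L L' := IsScalarTower.of_algebraMap_eq fun _ => rfl
  have t8 : IsScalarTower B B' L' := IsScalarTower.of_algebraMap_eq fun _ => rfl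
  have t9 : IsScalarTower K' L' Ω := IsScalarTower.of_algebraMap_eq fun _ => rfl
  obtain ⟨pA1, pA2, pA3, pA4⟩ := package hOA hπ K' hK'g hKcl (fun _ => rfl)
  obtain ⟨pB1, pB2, pB3, pB4⟩ := package hOB hρ L' hL' hLcl (fun _ => rfl)
  have sK : Algebra.IsSeparable K K' :=
    ⟨fun x => (isSeparable_map_iff K'.val K'.val.injective).1 (hK'g x x.2).sep⟩
  have sL : Algebra.IsSeparable L L' :=
    ⟨fun x => (isSeparable_map_iff L'.val L'.val.injective).1 (hL' x x.2).sep⟩
  have aK : Algebra.IsAlgebraic K K' := inferInstance
  have gr : Algebra.IsGeometricallyReduced (ResidueField A) (ResidueField A') := by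
    have := pA3.separable
    exact SepSol2.isGeometricallyReduced_of_isSeparable _ _
  have hOB' : Dominates B' ((algebraMap L' Ω).comp (algebraMap B' L')) O :=
    (dominates_comp_subtype_iff (algebraMap L' Ω) B' O).2 rfl
  refine ⟨A', B', K', L', inferInstance, inferInstance, dA, inferInstance, inferInstance, dB, inferInstance,
    inferInstance, iA, iB, iAB', iAB, t1, t2, inferInstance, inferInstance, inferInstance, inferInstance, iKL,
    iA'L', t3, t4, inferInstance, iAK', t5, t6, inferInstance, iBL', t7, t8, lA, lB, lAB', pA1, pB1, ?_, sK, sL,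
    pA4, pB4, ?_, ?_, ?_⟩
  · intro a b hab
    exact Subtype.ext (kl.injective (congrArg Subtype.val hab))
  · rintro ⟨K₁, _, _, hfin, h⟩
    exact (exists_solution (A := A) (K := K) (A' := A') (K' := K') (B' := B') (L := L) (L' := L') (Ω := Ω)
      (K₁ := K₁) (B := B) pA1 pA2 O hOB' hOB h).1
  · rintro ⟨K₁, _, _, _, _, N, hfin, hn, hN, h⟩
    exact exists_weakSolution_of_normal (A := A) (K := K) (A' := A') (K' := K') (B' := B') (L := L) (L' := L')
      (Ω := Ω) (K₁ := K₁) (B := B) pA1 pA2 O hOB' hOB N hN h
  · rintro ⟨K₁, _, _, hfin, hsep, h⟩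
    exact (exists_solution (A := A) (K := K) (A' := A') (K' := K') (B' := B') (L := L) (L' := L') (Ω := Ω)
      (K₁ := K₁) (B := B) pA1 pA2 O hOB' hOB h).2 sK hsep

/-- Let A → B be an injective local homomorphism of discrete valuation rings whose fields of fractions
are K ⊆ L. There is a commutative square of such extensions A ⊆ A', B ⊆ B', A' ⊆ B' (with fraction
fields K', L') such that (1) K'/K and L'/L are separable algebraic, (2) the residue field of A' is a
separable algebraic closure of that of A, and likewise for B' over B, and (3) whenever A' ⊆ B'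
admits a solution (respectively a separable solution), so does A ⊆ B.

WHAT WAS CHANGED: the frozen statement S7162 claims (3) also for weak solutions; that clause is false
(`departures/helper875.md`, `departures/helper727.md`) and is left out.  Nothing else was changed.  The version
`result_weak` keeps the clause for weak solutions that are generated over K' by a normal extension of K. -/
theorem result (A B K L : Type u) [CommRing A] [IsDomain A]
    [IsDiscreteValuationRing A] [CommRing B] [IsDomain B] [IsDiscreteValuationRing B] [Algebra A B]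
    (hinj : Function.Injective (algebraMap A B)) [IsLocalHom (algebraMap A B)]
    [Field K] [Field L] [Algebra A K] [IsFractionRing A K] [Algebra B L] [IsFractionRing B L]
    [Algebra K L] [Algebra A L] [IsScalarTower A K L] [IsScalarTower A B L] :
    ∃ (A' B' K' L' : Type u) (_ : CommRing A') (_ : IsDomain A') (_ : IsDiscreteValuationRing A')
      (_ : CommRing B') (_ : IsDomain B') (_ : IsDiscreteValuationRing B') (_ : Field K') (_ : Field L')
      (_ : Algebra A A') (_ : Algebra B B') (_ : Algebra A' B') (_ : Algebra A B')
      (_ : IsScalarTower A B B') (_ : IsScalarTower A A' B')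
      (_ : Algebra A' K') (_ : IsFractionRing A' K') (_ : Algebra B' L') (_ : IsFractionRing B' L')
      (_ : Algebra K' L') (_ : Algebra A' L') (_ : IsScalarTower A' K' L') (_ : IsScalarTower A' B' L')
      (_ : Algebra K K') (_ : Algebra A K') (_ : IsScalarTower A K K') (_ : IsScalarTower A A' K')
      (_ : Algebra L L') (_ : Algebra B L') (_ : IsScalarTower B L L') (_ : IsScalarTower B B' L')
      (hA : IsLocalHom (algebraMap A A')) (hB : IsLocalHom (algebraMap B B')) (_ : IsLocalHom (algebraMap A' B')),
      Function.Injective (algebraMap A A') ∧ Function.Injective (algebraMap B B') ∧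
      Function.Injective (algebraMap A' B') ∧
      Algebra.IsSeparable K K' ∧ Algebra.IsSeparable L L' ∧
      (letI := (IsLocalRing.ResidueField.map (algebraMap A A')).toAlgebra
       IsSepClosure (IsLocalRing.ResidueField A) (IsLocalRing.ResidueField A')) ∧
      (letI := (IsLocalRing.ResidueField.map (algebraMap B B')).toAlgebra
       IsSepClosure (IsLocalRing.ResidueField B) (IsLocalRing.ResidueField B')) ∧
      ((∃ (K₁ : Type u) (_ : Field K₁) (_ : Algebra K' K₁), FiniteDimensional K' K₁ ∧ EtRam.IsSolution B' K' L' K₁) →
        ∃ (K₁ : Type u) (_ : Field K₁) (_ : Algebra K K₁), FiniteDimensional K K₁ ∧ EtRam.IsSolution B K L K₁) ∧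
      ((∃ (K₁ : Type u) (_ : Field K₁) (_ : Algebra K' K₁), FiniteDimensional K' K₁ ∧ Algebra.IsSeparable K' K₁ ∧
          EtRam.IsSolution B' K' L' K₁) →
        ∃ (K₁ : Type u) (_ : Field K₁) (_ : Algebra K K₁), FiniteDimensional K K₁ ∧ Algebra.IsSeparable K K₁ ∧
          EtRam.IsSolution B K L K₁) := by
  obtain ⟨A', B', K', L', i1, i2, i3, i4, i5, i6, i7, i8, i9, i10, i11, i12, i13, i14, i15, i16, i17, i18, i19,
    i20, i21, i22, i23, i24, i25, i26, i27, i28, i29, i30, i31, i32, i33, h1, h2, h3, h4, h5, h6, h7, h8, -, h9⟩ :=
    result_weak A B K L hinj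
  exact ⟨A', B', K', L', i1, i2, i3, i4, i5, i6, i7, i8, i9, i10, i11, i12, i13, i14, i15, i16, i17, i18, i19,
    i20, i21, i22, i23, i24, i25, i26, i27, i28, i29, i30, i31, i32, i33, h1, h2, h3, h4, h5, h6, h7, h8, h9⟩

end Groth.Agent.Restated.S7162
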