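import Groth.Agent.EtAlg.K420.UniqExt
import Groth.Agent.EtAlg.K420.WeakRefl
import Groth.Prelude.Def_EtRam

/-!
# S7162, restated: the version with a clause on weak solutions

`Groth.Agent.Restated.S7162.result` is the frozen statement without the (false) clause on weak solutions.  Here the
clause is kept under a hypothesis which makes it true:

* `result_full`: whenever the residue field of `A` is separably closed in the residue field of `B`, `A ⊆ B` has a weak
  solution as soon as `A' ⊆ B'` has one (all weak solutions, no normality).  In addition the clauses on solutions,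
  separable solutions (no hypothesis) and on the weak solutions generated over `K'` by a normal extension of `K`.
* `result'`: the frozen statement with that one additional hypothesis in the clause on weak solutions.

The counterexamples to the frozen clause (`departures/helper875.md`, `helper727.md`, `helper834.md`) all have a residue
field extension which contains a non-trivial separable algebraic part: there `K'` has several embeddings into `L'` over
`K` which are not conjugate over `L`, and a weak solution for one of them need not be one for the others.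

Proof of the clause: `K'` is now chosen maximal among the unramified extensions of `K` inside `L'` to which the
valuation extends uniquely.  Let `N` be a weak solution, `N = K' ⊗ E` over a finite `K₂ ⊆ K'`.  As the residue field of
`A` is separably closed in that of `B`, an `A`-basis of the valuation ring of `K₂` is residually independent over `L` in
every valued field containing `(L, B)` and `K₂` (`K420.Gauss.rli_gauss`); so a compositum `(M, W)` of `L` and `E` and
`(L', B')` have a common extension in which the two copies of `K₂` agree (`K420.Gauss.exists_common`), and in it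
`N = K' E` is a compositum of `K'` and `E`; now `K420.ReflectSol.core` applies.
-/

set_option autoImplicit false
universe u

open IsLocalRing EtRam Groth.Agent.Etalg Groth.Agent.Etalg.RamBasic Groth.Agent.Etalg.ResInd
  K420.EtClosed K420.ReflectSol

namespace Groth.Agent.Restated.S7162Full

/-- Let A → B be an injective local homomorphism of discrete valuation rings whose fields of fractions
are K ⊆ L. There is a commutative square of such extensions A ⊆ A', B ⊆ B', A' ⊆ B' (with fraction
fields K', L') such that (1) K'/K and L'/L are separable algebraic, (2) the residue field of A' is a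
separable algebraic closure of that of A, and likewise for B' over B, and (3) whenever A' ⊆ B'
admits a solution (respectively a separable solution), so does A ⊆ B; if A' ⊆ B' admits a weak solution K₁ which
is generated over K' by a normal extension N of K, then A ⊆ B admits a weak solution; and if the residue field of A is
separably closed in the residue field of B, then A ⊆ B admits a weak solution whenever A' ⊆ B' does.

WHAT WAS CHANGED: the frozen statement S7162 claims the last assertion without any hypothesis, which is false. -/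
theorem result_full (A B K L : Type u) [CommRing A] [IsDomain A]
    [IsDiscreteValuationRing A] [CommRing B] [IsDomain B] [IsDiscreteValuationRing B] [Algebra A B]
    (hinj : Function.Injective (algebraMap A B)) [IsLocalHom (algebraMap A B)]
    [Field K] [Field L] [Algebra A K] [IsFractionRing A K] [Algebra B L] [IsFractionRing B L]
    [Algebra K L] [Algebra A L] [IsScalarTower A K L] [IsScalarTower A B L] :
    ∃ (A' B' K' L' : Type u) (_ : CommRing A') (_ : IsDomain A') (_ : IsDiscreteValuationRing A')
      (_ : CommRing B') (_ : IsDomain B') (_ : IsDiscreteValuationRing B') (_ : Field K') (_ : Field L')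
      (_ : Algebra A A') (_ : Algebra B B') (_ : Algebra A' B') (_ : Algebra A B')
      (_ : IsScalarTower A B B') (_ : IsScalarTower A A' B')
      (_ : Algebra A' K') (_ : IsFractionRing A' K') (_ : Algebra B' L') (_ : IsFractionRing B' L')
      (_ : Algebra K' L') (_ : Algebra A' L') (_ : IsScalarTower A' K' L') (_ : IsScalarTower A' B' L')
      (_ : Algebra K K') (_ : Algebra A K') (_ : IsScalarTower A K K') (_ : IsScalarTower A A' K')
      (_ : Algebra L L') (_ : Algebra B L') (_ : IsScalarTower B L L') (_ : IsScalarTower B B' L')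
      (hA : IsLocalHom (algebraMap A A')) (hB : IsLocalHom (algebraMap B B')) (_ : IsLocalHom (algebraMap A' B')),
      Function.Injective (algebraMap A A') ∧ Function.Injective (algebraMap B B') ∧
      Function.Injective (algebraMap A' B') ∧
      Algebra.IsSeparable K K' ∧ Algebra.IsSeparable L L' ∧
      (letI := (IsLocalRing.ResidueField.map (algebraMap A A')).toAlgebra
       IsSepClosure (IsLocalRing.ResidueField A) (IsLocalRing.ResidueField A')) ∧
      (letI := (IsLocalRing.ResidueField.map (algebraMap B B')).toAlgebra
       IsSepClosure (IsLocalRing.ResidueField B) (IsLocalRing.ResidueField B')) ∧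
      ((∃ (K₁ : Type u) (_ : Field K₁) (_ : Algebra K' K₁), FiniteDimensional K' K₁ ∧ EtRam.IsSolution B' K' L' K₁) →
        ∃ (K₁ : Type u) (_ : Field K₁) (_ : Algebra K K₁), FiniteDimensional K K₁ ∧ EtRam.IsSolution B K L K₁) ∧
      ((∃ (K₁ : Type u) (_ : Field K₁) (_ : Algebra K' K₁) (_ : Algebra K K₁) (_ : IsScalarTower K K' K₁)
          (N : IntermediateField K K₁), FiniteDimensional K' K₁ ∧ Normal K N ∧
          Algebra.adjoin K' (N : Set K₁) = ⊤ ∧ EtRam.IsWeakSolution B' K' L' K₁) →
        ∃ (K₁ : Type u) (_ : Field K₁) (_ : Algebra K K₁), FiniteDimensional K K₁ ∧ EtRam.IsWeakSolution B K L K₁) ∧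
      ((∀ x : IsLocalRing.ResidueField B, IsSeparable (IsLocalRing.ResidueField A) x →
          x ∈ Set.range (algebraMap (IsLocalRing.ResidueField A) (IsLocalRing.ResidueField B))) →
        (∃ (K₁ : Type u) (_ : Field K₁) (_ : Algebra K' K₁), FiniteDimensional K' K₁ ∧
          EtRam.IsWeakSolution B' K' L' K₁) →
        ∃ (K₁ : Type u) (_ : Field K₁) (_ : Algebra K K₁), FiniteDimensional K K₁ ∧ EtRam.IsWeakSolution B K L K₁) ∧
      ((∃ (K₁ : Type u) (_ : Field K₁) (_ : Algebra K' K₁), FiniteDimensional K' K₁ ∧ Algebra.IsSeparable K' K₁ ∧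
          EtRam.IsSolution B' K' L' K₁) →
        ∃ (K₁ : Type u) (_ : Field K₁) (_ : Algebra K K₁), FiniteDimensional K K₁ ∧ Algebra.IsSeparable K K₁ ∧
          EtRam.IsSolution B K L K₁) := by
  let Ω := AlgebraicClosure L
  obtain ⟨O, hOB⟩ := exists_dominates (toΩ B L Ω)
  have hcomp : (toΩ B L Ω).comp (algebraMap A B) = toΩ A K Ω := by
    ext a
    show algebraMap L Ω (algebraMap B L (algebraMap A B a)) = algebraMap K Ω (algebraMap A K a)
    rw [← IsScalarTower.algebraMap_apply A B L, IsScalarTower.algebraMap_apply A K L,
      ← IsScalarTower.algebraMap_apply K L Ω]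
  have hOA : Dominates A (toΩ A K Ω) O := by
    rw [← hcomp]
    refine ⟨fun a => hOB.1 _, fun a ha => hOB.2 _ ?_⟩
    exact (((local_hom_TFAE (algebraMap A B)).out 0 2 rfl rfl).mp ‹_›) (Ideal.mem_map_of_mem _ ha)
  obtain ⟨π, hπ⟩ := IsDiscreteValuationRing.exists_irreducible A
  obtain ⟨ρ, hρ⟩ := IsDiscreteValuationRing.exists_irreducible B
  obtain ⟨L', hL', hLmax⟩ := exists_maximal (K := L) (Good B L O ρ) (good_algebraMap hOB hρ)
  obtain ⟨K', hK', hKmax⟩ := exists_maximal (K := K)
    (fun x : Ω => Good A K O π x ∧ x ∈ L' ∧ (x ∈ O → (toΩ A K Ω).IsIntegralElem x))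
    (fun x => ⟨good_algebraMap hOA hπ x, by
      rw [IsScalarTower.algebraMap_apply K L Ω]
      exact L'.algebraMap_mem _, fun hx => by
      have h1 : x ∈ O.comap (algebraMap K Ω) := hx
      rw [(dominates_comp_algebraMap_iff (A := A) (K := K) (algebraMap K Ω)).1 hOA] at h1
      obtain ⟨a, rfl⟩ := h1
      exact (toΩ A K Ω).isIntegralElem_map⟩)
  have hLcl : SRClosed O (L' : Set Ω) := by
    intro p hp hc α hα hd
    obtain ⟨M, hM1, hM2, hM3, -⟩ := good_step hOB hρ L' hL' p hp hc α hα hd
    exact hLmax M hM1 hM3 hM2
  have hKsc : IsSepClosed (ResidueField (O.comap (algebraMap K' Ω))) := by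
    refine isSepClosed_residueField' (algebraMap K' Ω) fun q hq hirr α hα hd => ?_
    let ι : O.comap (algebraMap K' Ω) →+* Ω := (algebraMap K' Ω).comp (algebraMap (O.comap (algebraMap K' Ω)) K')
    have hp : (q.map ι).Monic := hq.map _
    have hc : ∀ n, (q.map ι).coeff n ∈ K' ∧ (q.map ι).coeff n ∈ O := by
      intro n
      rw [Polynomial.coeff_map]
      exact ⟨(q.coeff n : K').2, (q.coeff n).2⟩
    have hαL : α ∈ L' := hLcl (q.map ι) hp (fun n => ⟨(hK' _ (hc n).1).2.1, (hc n).2⟩) α hα hd
    obtain ⟨M, hM1, hM2, hM3, hM4⟩ := good_step hOA hπ K' (fun x hx => (hK' x hx).1) (q.map ι) hp hc α hα hd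
    have hαK : α ∈ K' := hKmax M hM1 (fun x hx => ⟨hM3 x hx,
      hM4 L'.toSubfield (fun x hx => (hK' x hx).2.1) hαL x hx, fun hxO => by
      refine int_step K' (fun y hy hyO => (hK' y hy).2.2 hyO) q hq hirr α hα x ?_ hxO
      exact hM4 (IntermediateField.adjoin K' {α}).toSubfield
        (fun y hy => (IntermediateField.adjoin K' {α}).algebraMap_mem ⟨y, hy⟩)
        (IntermediateField.mem_adjoin_simple_self K' α) x hx⟩) hM2
    exact ⟨⟨α, hαK⟩, rfl⟩
  have hK'g : ∀ x ∈ K', Good A K O π x := fun x hx => (hK' x hx).1
  -- the rings `A'` and `B'`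
  let A' := O.comap (algebraMap K' Ω)
  let B' := O.comap (algebraMap L' Ω)
  have dA : IsDiscreteValuationRing A' := isDVR_good hOA hπ K' hK'g
  have dB : IsDiscreteValuationRing B' := isDVR_good hOB hρ L' hL'
  let gA : A →+* K' := (algebraMap K K').comp (algebraMap A K)
  let gB : B →+* L' := (algebraMap L L').comp (algebraMap B L)
  have hdA : Dominates A gA A' := (dominates_comp_iff gA (algebraMap K' Ω) O).1 hOA
  have hdB : Dominates B gB B' := (dominates_comp_iff gB (algebraMap L' Ω) O).1 hOB
  let iA : Algebra A A' := (RingHom.codRestrict gA A' hdA.1).toAlgebra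
  have lA : IsLocalHom (algebraMap A A') := Dominates.isLocalHom hdA
  let iB : Algebra B B' := (RingHom.codRestrict gB B' hdB.1).toAlgebra
  have lB : IsLocalHom (algebraMap B B') := Dominates.isLocalHom hdB
  let kl : K' →+* L' := (algebraMap K' Ω).codRestrict L' (fun x => (hK' x x.2).2.1)
  let iKL : Algebra K' L' := kl.toAlgebra
  let ab : A' →+* B' := inclOfComap B' kl
  have lab : IsLocalHom ab := isLocalHom_inclOfComap B' kl
  let iAB' : Algebra A' B' := ab.toAlgebra
  have lAB' : IsLocalHom (algebraMap A' B') := lab
  let iAB : Algebra A B' := ((algebraMap B B').comp (algebraMap A B)).toAlgebra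
  have t1 : IsScalarTower A B B' := IsScalarTower.of_algebraMap_eq' rfl
  have t2 : IsScalarTower A A' B' := IsScalarTower.of_algebraMap_eq fun a =>
    Subtype.ext (Subtype.ext (congrArg (fun g : A →+* Ω => g a) hcomp))
  let iA'L' : Algebra A' L' := (kl.comp (algebraMap A' K')).toAlgebra
  have t3 : IsScalarTower A' K' L' := IsScalarTower.of_algebraMap_eq' rfl
  have t4 : IsScalarTower A' B' L' := IsScalarTower.of_algebraMap_eq fun _ => rfl
  let iAK' : Algebra A K' := gA.toAlgebra
  have t5 : IsScalarTower A K K' := IsScalarTower.of_algebraMap_eq fun _ => rfl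
  have t6 : IsScalarTower A A' K' := IsScalarTower.of_algebraMap_eq fun _ => rfl
  let iBL' : Algebra B L' := gB.toAlgebra
  have t7 : IsScalarTower B L L' := IsScalarTower.of_algebraMap_eq fun _ => rfl
  have t8 : IsScalarTower B B' L' := IsScalarTower.of_algebraMap_eq fun _ => rfl
  have t9 : IsScalarTower K' L' Ω := IsScalarTower.of_algebraMap_eq fun _ => rfl
  obtain ⟨pA1, pA2, pA3, pA4⟩ := package' hOA hπ K' hK'g hKsc (fun _ => rfl)
  obtain ⟨pB1, pB2, pB3, pB4⟩ := package hOB hρ L' hL' hLcl (fun _ => rfl)
  have sK : Algebra.IsSeparable K K' :=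
    ⟨fun x => (isSeparable_map_iff K'.val K'.val.injective).1 (hK'g x x.2).sep⟩
  have sL : Algebra.IsSeparable L L' :=
    ⟨fun x => (isSeparable_map_iff L'.val L'.val.injective).1 (hL' x x.2).sep⟩
  have aK : Algebra.IsAlgebraic K K' := inferInstance
  have gr : Algebra.IsGeometricallyReduced (ResidueField A) (ResidueField A') := by
    have := pA3.separable
    exact SepSol2.isGeometricallyReduced_of_isSeparable _ _
  have hOB' : Dominates B' ((algebraMap L' Ω).comp (algebraMap B' L')) O :=
    (dominates_comp_subtype_iff (algebraMap L' Ω) B' O).2 rfl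
  refine ⟨A', B', K', L', inferInstance, inferInstance, dA, inferInstance, inferInstance, dB, inferInstance,
    inferInstance, iA, iB, iAB', iAB, t1, t2, inferInstance, inferInstance, inferInstance, inferInstance, iKL,
    iA'L', t3, t4, inferInstance, iAK', t5, t6, inferInstance, iBL', t7, t8, lA, lB, lAB', pA1, pB1, ?_, sK, sL,
    pA4, pB4, ?_, ?_, ?_, ?_⟩
  · intro a b hab
    exact Subtype.ext (kl.injective (congrArg Subtype.val hab))
  · rintro ⟨K₁, _, _, hfin, h⟩
    exact (exists_solution (A := A) (K := K) (A' := A') (K' := K') (B' := B') (L := L) (L' := L') (Ω := Ω)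
      (K₁ := K₁) (B := B) pA1 pA2 O hOB' hOB h).1
  · rintro ⟨K₁, _, _, _, _, N, hfin, hn, hN, h⟩
    exact exists_weakSolution_of_normal (A := A) (K := K) (A' := A') (K' := K') (B' := B') (L := L) (L' := L')
      (Ω := Ω) (K₁ := K₁) (B := B) pA1 pA2 O hOB' hOB N hN h
  · rintro H ⟨K₁, _, _, hfin, h⟩
    have H' : separableClosure (ResidueField A) (ResidueField B) = ⊥ := by
      rw [eq_bot_iff]
      intro x hx
      rw [mem_separableClosure_iff] at hx
      exact IntermediateField.mem_bot.2 (H x hx)
    have hsA : Algebra.IsSeparable (ResidueField A) (ResidueField A') := pA3.separable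
    have hiA : Algebra.IsIntegral A A' := by
      refine ⟨fun x => ?_⟩
      obtain ⟨p, hp, hpx⟩ := (hK' _ x.1.2).2.2 x.2
      refine ⟨p, hp, Subtype.ext ((algebraMap K' Ω).injective ?_)⟩
      show algebraMap K' Ω (algebraMap A' K' (p.eval₂ (algebraMap A A') x)) = algebraMap K' Ω 0
      rw [Polynomial.hom_eval₂, Polynomial.hom_eval₂, map_zero]
      exact hpx
    let iKL' : Algebra K L' := ((algebraMap L L').comp (algebraMap K L)).toAlgebra
    have t10 : IsScalarTower K L L' := IsScalarTower.of_algebraMap_eq' rfl
    have t11 : IsScalarTower K K' L' := IsScalarTower.of_algebraMap_eq fun x => by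
      apply (algebraMap L' Ω).injective
      show algebraMap L' Ω (algebraMap L L' (algebraMap K L x)) = algebraMap K' Ω (algebraMap K K' x)
      rw [← IsScalarTower.algebraMap_apply L L' Ω, ← IsScalarTower.algebraMap_apply K L Ω,
        ← IsScalarTower.algebraMap_apply K K' Ω]
    exact K420.WeakRefl.exists_weakSolution (A := A) (K := K) (A' := A') (K' := K') (B := B) (B' := B') (L := L)
      (L' := L') (N := K₁) pA1 pA2 H' h
  · rintro ⟨K₁, _, _, hfin, hsep, h⟩
    exact (exists_solution (A := A) (K := K) (A' := A') (K' := K') (B' := B') (L := L) (L' := L') (Ω := Ω)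
      (K₁ := K₁) (B := B) pA1 pA2 O hOB' hOB h).2 sK hsep

/-- Let A → B be an injective local homomorphism of discrete valuation rings whose fields of fractions
are K ⊆ L. There is a commutative square of such extensions A ⊆ A', B ⊆ B', A' ⊆ B' (with fraction
fields K', L') such that (1) K'/K and L'/L are separable algebraic, (2) the residue field of A' is a
separable algebraic closure of that of A, and likewise for B' over B, and (3) whenever A' ⊆ B'
admits a solution (respectively a separable solution, respectively - if the residue field of A is separably closed in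
that of B - a weak solution), so does A ⊆ B.

WHAT WAS CHANGED: only the hypothesis "the residue field of A is separably closed in that of B" was added in the clause
on weak solutions; without it that clause is false. -/
theorem result' (A B K L : Type u) [CommRing A] [IsDomain A]
    [IsDiscreteValuationRing A] [CommRing B] [IsDomain B] [IsDiscreteValuationRing B] [Algebra A B]
    (hinj : Function.Injective (algebraMap A B)) [IsLocalHom (algebraMap A B)]
    [Field K] [Field L] [Algebra A K] [IsFractionRing A K] [Algebra B L] [IsFractionRing B L]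
    [Algebra K L] [Algebra A L] [IsScalarTower A K L] [IsScalarTower A B L] :
    ∃ (A' B' K' L' : Type u) (_ : CommRing A') (_ : IsDomain A') (_ : IsDiscreteValuationRing A')
      (_ : CommRing B') (_ : IsDomain B') (_ : IsDiscreteValuationRing B') (_ : Field K') (_ : Field L')
      (_ : Algebra A A') (_ : Algebra B B') (_ : Algebra A' B') (_ : Algebra A B')
      (_ : IsScalarTower A B B') (_ : IsScalarTower A A' B')
      (_ : Algebra A' K') (_ : IsFractionRing A' K') (_ : Algebra B' L') (_ : IsFractionRing B' L')
      (_ : Algebra K' L') (_ : Algebra A' L') (_ : IsScalarTower A' K' L') (_ : IsScalarTower A' B' L')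
      (_ : Algebra K K') (_ : Algebra A K') (_ : IsScalarTower A K K') (_ : IsScalarTower A A' K')
      (_ : Algebra L L') (_ : Algebra B L') (_ : IsScalarTower B L L') (_ : IsScalarTower B B' L')
      (hA : IsLocalHom (algebraMap A A')) (hB : IsLocalHom (algebraMap B B')) (_ : IsLocalHom (algebraMap A' B')),
      Function.Injective (algebraMap A A') ∧ Function.Injective (algebraMap B B') ∧
      Function.Injective (algebraMap A' B') ∧
      Algebra.IsSeparable K K' ∧ Algebra.IsSeparable L L' ∧
      (letI := (IsLocalRing.ResidueField.map (algebraMap A A')).toAlgebra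
       IsSepClosure (IsLocalRing.ResidueField A) (IsLocalRing.ResidueField A')) ∧
      (letI := (IsLocalRing.ResidueField.map (algebraMap B B')).toAlgebra
       IsSepClosure (IsLocalRing.ResidueField B) (IsLocalRing.ResidueField B')) ∧
      ((∃ (K₁ : Type u) (_ : Field K₁) (_ : Algebra K' K₁), FiniteDimensional K' K₁ ∧ EtRam.IsSolution B' K' L' K₁) →
        ∃ (K₁ : Type u) (_ : Field K₁) (_ : Algebra K K₁), FiniteDimensional K K₁ ∧ EtRam.IsSolution B K L K₁) ∧
      ((∀ x : IsLocalRing.ResidueField B, IsSeparable (IsLocalRing.ResidueField A) x →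
          x ∈ Set.range (algebraMap (IsLocalRing.ResidueField A) (IsLocalRing.ResidueField B))) →
        (∃ (K₁ : Type u) (_ : Field K₁) (_ : Algebra K' K₁), FiniteDimensional K' K₁ ∧
          EtRam.IsWeakSolution B' K' L' K₁) →
        ∃ (K₁ : Type u) (_ : Field K₁) (_ : Algebra K K₁), FiniteDimensional K K₁ ∧ EtRam.IsWeakSolution B K L K₁) ∧
      ((∃ (K₁ : Type u) (_ : Field K₁) (_ : Algebra K' K₁), FiniteDimensional K' K₁ ∧ Algebra.IsSeparable K' K₁ ∧
          EtRam.IsSolution B' K' L' K₁) →
        ∃ (K₁ : Type u) (_ : Field K₁) (_ : Algebra K K₁), FiniteDimensional K K₁ ∧ Algebra.IsSeparable K K₁ ∧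
          EtRam.IsSolution B K L K₁) := by
  obtain ⟨A', B', K', L', i1, i2, i3, i4, i5, i6, i7, i8, i9, i10, i11, i12, i13, i14, i15, i16, i17, i18, i19,
    i20, i21, i22, i23, i24, i25, i26, i27, i28, i29, i30, i31, i32, i33, h1, h2, h3, h4, h5, h6, h7, h8, -, h9,
    h10⟩ := result_full A B K L hinj
  exact ⟨A', B', K', L', i1, i2, i3, i4, i5, i6, i7, i8, i9, i10, i11, i12, i13, i14, i15, i16, i17, i18, i19,
    i20, i21, i22, i23, i24, i25, i26, i27, i28, i29, i30, i31, i32, i33, h1, h2, h3, h4, h5, h6, h7, h8, h9, h10⟩

end Groth.Agent.Restated.S7162Full
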