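import Groth.Prelude.Def_Red
import Groth.Prelude.Def_LieS
import Groth.Agent.SGA3t2b.K447.Desc

/-!
# S8381 restated
-/

set_option autoImplicit false
universe u
open CategoryTheory MonoidalCategory CartesianMonoidalCategory MonObj GrpObj AlgebraicGeometry

namespace Groth.Agent.Restated.S8381

/-- **S8381 for affine groups** (restated; the frozen statement has no hypothesis of affineness on `G` and is
false without it; the only change is the added hypothesis `[IsAffine G.left]`).

Let G be a smooth affine algebraic group (smooth, affine and of finite type) over an infinite field k, T a
maximal torus of G, and L a Lie algebra over k modelling Lie(G)(k) (an identification carrying sum, scalars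
and bracket to the group law, rescaling and bracket relation on dual-number points). Then the Lie
algebra of T contains a regular element of the Lie algebra of G: some element of Lie(T)(k) maps to
an element of Lie(G)(k) whose counterpart in L is regular. -/
theorem result (k : Type u) [Field k] [Infinite k]
    (G : Over (Spec (CommRingCat.of k))) [GrpObj G] [IsAffine G.left] [Smooth G.hom] [QuasiCompact G.hom]
    (T : Over (Spec (CommRingCat.of k))) [GrpObj T] (i : T ⟶ G) [IsMonHom i] (hT : Red.IsMaximalTorus i)
    (L : Type u) [LieRing L] [LieAlgebra k L] [Module.Finite k L] (m : LieS.Model G k (Spec.map (CommRingCat.ofHom (algebraMap k k))) L) :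
    ∃ w : ↥(LieS.LieR T k),
      LieAlgebra.IsRegular k (Multiplicative.toAdd (m.e.symm (LieS.map k (Spec.map (CommRingCat.ofHom (algebraMap k k))) i w))) :=
  Groth.Agent.SGA3t2b.K447.Desc.main k G T i hT L m

end Groth.Agent.Restated.S8381
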